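import Cfsg.Agent.Lib.PermGp.Burnside
import Cfsg.Agent.Lib.Basics.Tools
import Mathlib.GroupTheory.GroupAction.Primitive

/-!
# A transitive group of prime degree is doubly transitive or has a normal Sylow subgroup
-/

set_option autoImplicit false
set_option linter.unusedSectionVars false

namespace Cfsg.Agent.SquarePlusOne

open MulAction

universe u v

theorem normal_sylow_of_solvable {α : Type v} [Fintype α] [DecidableEq α] {p : ℕ}
    [hp : Fact p.Prime] (hα : Fintype.card α = p) (M : Subgroup (Equiv.Perm α)) [IsPretransitive M α]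
    [Group.IsSolvable M] (P : Sylow p M) : (P : Subgroup M).Normal := by
  haveI : Nontrivial M := by
    rw [← Finite.one_lt_card_iff_nontrivial]
    exact lt_of_lt_of_le hp.out.one_lt (Nat.le_of_dvd Nat.card_pos (PermGp.prime_dvd_card hα M))
  obtain ⟨q, E, -, hEn, -, hE1, hab, -⟩ :=
    Basics.exists_elementary_normal (N := (⊤ : Subgroup M)) top_ne_bot inferInstance
  haveI := hEn
  haveI : IsPreprimitive M α := IsPreprimitive.of_prime_card (by rw [Nat.card_eq_fintype_card, hα]; exact hp.out)
  haveI hEt : IsPretransitive E α := by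
    refine IsQuasiPreprimitive.isPretransitive_of_normal (G := M) fun h => hE1 ?_
    rw [Subgroup.eq_bot_iff_forall]
    intro x hx
    apply PermGp.perm_ext
    intro y
    rw [one_smul]
    exact (Set.ext_iff.mp h y).mpr trivial ⟨x, hx⟩
  obtain ⟨y⟩ : Nonempty α := Fintype.card_pos_iff.mp (hα ▸ hp.out.pos)
  have hst : Nat.card (stabilizer E y) = 1 := by
    rw [Subgroup.card_eq_one, Subgroup.eq_bot_iff_forall]
    intro x hx
    apply Subtype.ext
    apply PermGp.perm_ext
    intro z
    obtain ⟨e, he⟩ := exists_smul_eq E y z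
    rw [OneMemClass.coe_one, one_smul, ← he]
    change x • e • y = e • y
    rw [← mul_smul, show x * e = e * x from hab.is_comm.comm x e, mul_smul, hx]
  have hcard : Nat.card E = p := by
    have h := Subgroup.index_mul_card (stabilizer E y)
    rw [hst, mul_one, index_stabilizer_of_transitive, Nat.card_eq_fintype_card (α := α), hα] at h
    exact h.symm
  have hEp : IsPGroup p E := IsPGroup.of_card (n := 1) (by rw [pow_one, hcard])
  have hle : E ≤ (P : Subgroup M) := by
    obtain ⟨Q, hQ⟩ := hEp.exists_le_sylow
    obtain ⟨g, rfl⟩ := MulAction.exists_smul_eq M P Q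
    intro x hx
    have : g * x * g⁻¹ ∈ (g • P : Sylow p M).toSubgroup := hQ (hEn.conj_mem x hx g)
    rw [Sylow.coe_subgroup_smul, Subgroup.mem_pointwise_smul_iff_inv_smul_mem] at this
    simpa [mul_assoc] using this
  have := Subgroup.eq_of_le_of_card_ge hle (by rw [PermGp.card_sylow hα M P, hcard])
  exact this ▸ hEn

/-- The dichotomy for a faithful transitive action of prime degree. -/
theorem normal_or_two_trans {H : Type u} [Group H] [Finite H] {α : Type v} [Fintype α]
    [MulAction H α] [FaithfulSMul H α] [IsPretransitive H α] {p : ℕ} [hp : Fact p.Prime]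
    (hα : Fintype.card α = p) :
    (∀ P : Sylow p H, (P : Subgroup H).Normal) ∨
      ∀ x y x' y' : α, x ≠ y → x' ≠ y' → ∃ g : H, g • x = x' ∧ g • y = y' := by
  classical
  let f : H →* Equiv.Perm α := toPermHom H α
  haveI : IsPretransitive f.range α := ⟨fun x y => by
    obtain ⟨g, hg⟩ := exists_smul_eq H x y
    exact ⟨⟨f g, ⟨g, rfl⟩⟩, hg⟩⟩
  by_cases hs : Group.IsSolvable f.range
  · left
    intro P
    have hinj : Function.Injective f := toPerm_injective
    have hsurj : Function.Surjective f.rangeRestrict := f.rangeRestrict_surjective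
    have hn := normal_sylow_of_solvable hα f.range (P.mapSurjective hsurj)
    rw [Sylow.coe_mapSurjective] at hn
    have h2 := hn.comap f.rangeRestrict
    rwa [Subgroup.comap_map_eq_self_of_injective] at h2
    exact fun x y h => hinj (congrArg Subtype.val h)
  · right
    have h2 := PermGp.two_transitive_of_not_solvable hα f.range hs
    rw [is_two_pretransitive_iff] at h2
    intro x y x' y' h h'
    obtain ⟨⟨_, g, rfl⟩, h1, h3⟩ := h2 h h'
    exact ⟨g, h1, h3⟩

end Cfsg.Agent.SquarePlusOne
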