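import Mathlib.GroupTheory.GroupAction.Blocks
import Mathlib.Data.Finset.Prod
import Mathlib.Data.Set.Card
import Mathlib.Tactic.Ring
import Mathlib.GroupTheory.GroupAction.MultipleTransitivity
import Mathlib.GroupTheory.Index
import Mathlib.Data.Fintype.Card

/-!
# Systems of imprimitivity of a point stabilizer in a doubly transitive group

The sets `{a} ∪ B` (`B` a class) are pointed at `a` only, unless `p + 1` divides `2`.
-/

set_option autoImplicit false
set_option linter.unusedSectionVars false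

namespace Cfsg.Agent.SquarePlusOne

open MulAction
open scoped Pointwise

universe u v

variable {G : Type u} [Group G] [Finite G] {Ω : Type v} [Fintype Ω] [MulAction G Ω]

/-- Double transitivity, concretely. -/
def TwoTrans (G : Type u) (Ω : Type v) [Group G] [MulAction G Ω] : Prop :=
  ∀ x y x' y' : Ω, x ≠ y → x' ≠ y' → ∃ g : G, g • x = x' ∧ g • y = y'

/-- The stabilizer of the points `a` and `b`. -/
def stab2 (G : Type u) {Ω : Type v} [Group G] [MulAction G Ω] (a b : Ω) : Subgroup G :=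
  stabilizer G a ⊓ stabilizer G b

theorem mem_stab2 {a b : Ω} {g : G} : g ∈ stab2 G a b ↔ g • a = a ∧ g • b = b := Iff.rfl

/-- An invariant system of blocks of size `p` for the stabilizer of `a`. -/
structure Sys (G : Type u) {Ω : Type v} [Group G] [MulAction G Ω] (p : ℕ) (a : Ω) where
  r : Ω → Ω → Prop
  ne : ∀ x y, r x y → x ≠ a ∧ y ≠ a
  refl : ∀ x, x ≠ a → r x x
  symm : ∀ x y, r x y → r y x
  trans : ∀ x y z, r x y → r y z → r x z
  inv : ∀ g : G, g • a = a → ∀ x y, r x y → r (g • x) (g • y)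
  card : ∀ x, x ≠ a → {y | r x y}.ncard = p

namespace Sys

variable {p : ℕ} {a : Ω} (s : Sys G p a)

/-- The class of a point. -/
def cls (x : Ω) : Set Ω := {y | s.r x y}

theorem mem_cls {x y : Ω} : y ∈ s.cls x ↔ s.r x y := Iff.rfl

theorem self_mem_cls {x : Ω} (hx : x ≠ a) : x ∈ s.cls x := s.refl x hx

theorem cls_eq {x y : Ω} (h : s.r x y) : s.cls x = s.cls y :=
  Set.ext fun z => ⟨fun hz => s.trans y x z (s.symm x y h) hz, fun hz => s.trans x y z h hz⟩

theorem smul_ne {g : G} (hg : g • a = a) {x : Ω} (hx : x ≠ a) : g • x ≠ a :=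
  fun h => hx (smul_left_cancel g (h.trans hg.symm))

theorem inv_fix {g : G} (hg : g • a = a) : g⁻¹ • a = a := inv_smul_eq_iff.mpr hg.symm

theorem smul_cls {g : G} (hg : g • a = a) (x : Ω) : g • s.cls x = s.cls (g • x) := by
  ext y
  rw [Set.mem_smul_set_iff_inv_smul_mem, mem_cls, mem_cls]
  constructor
  · intro h; simpa using s.inv g hg _ _ h
  · intro h; simpa using s.inv g⁻¹ (inv_fix hg) _ _ h

theorem notMem_cls (x : Ω) : a ∉ s.cls x := fun h => (s.ne x a h).2 rfl

/-- The block set pointed at `a` through `y`. -/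
def blk (y : Ω) : Set Ω := insert a (s.cls y)

theorem ncard_blk {y : Ω} (hy : y ≠ a) : (s.blk y).ncard = p + 1 := by
  rw [blk, Set.ncard_insert_of_notMem (s.notMem_cls y) (Set.toFinite _), cls, s.card y hy]

theorem smul_blk {g : G} (hg : g • a = a) (y : Ω) : g • s.blk y = s.blk (g • y) := by
  rw [blk, blk, Set.smul_set_insert, hg, s.smul_cls hg]

theorem exists_move (h2 : TwoTrans G Ω) {x z : Ω} (hx : x ≠ a) (hz : z ≠ a) :
    ∃ g : G, g • a = a ∧ g • x = z :=
  h2 a x a z hx.symm hz.symm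

variable [hp : Fact p.Prime]

/-- A pointed set is pointed at one point only. -/
theorem blk_inj (h2 : TwoTrans G Ω) (hΩ : Fintype.card Ω = p ^ 2 + 1) {g : G} {y y' : Ω}
    (hy : y ≠ a) (hy' : y' ≠ a) (h : g • s.blk y = s.blk y') : g • a = a := by
  classical
  by_contra hx
  have hxc : g • a ∈ s.cls y' := by
    have : g • a ∈ s.blk y' := h ▸ Set.smul_mem_smul_set (Set.mem_insert a _)
    exact this.resolve_left hx
  -- every set is pointed at each of its points
  have full : ∀ w, w ≠ a → ∀ z ∈ s.blk w, ∃ (g₁ : G) (y₁ : Ω), y₁ ≠ a ∧ g₁ • a = z ∧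
      g₁ • s.blk y₁ = s.blk w := by
    intro w hw z hz
    rcases hz with rfl | hz
    · exact ⟨1, w, hw, one_smul _ _, one_smul _ _⟩
    obtain ⟨k, hka, hk⟩ := exists_move h2 hy' hw
    have hz' : k⁻¹ • z ∈ s.cls y' := by
      rw [← Set.mem_smul_set_iff_inv_smul_mem, s.smul_cls hka, hk]; exact hz
    obtain ⟨m, hma, hm⟩ := exists_move h2 hx (s.ne _ _ hz').2
    have hfix : m • s.blk y' = s.blk y' := by
      rw [s.smul_blk hma, blk, blk]
      congr 1
      refine s.cls_eq (s.symm _ _ (s.trans _ _ _ hz' ?_))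
      rw [← hm]
      exact s.symm _ _ (s.inv m hma _ _ hxc)
    refine ⟨k * m * g, y, hy, ?_, ?_⟩
    · rw [mul_smul, mul_smul, hm, smul_inv_smul]
    · rw [mul_smul, mul_smul, h, hfix, s.smul_blk hka, hk]
  have hch : ∀ x : Ω, ∃ k : G, k • a = x := by
    intro x
    by_cases hxa : x = a
    · exact ⟨1, by rw [one_smul, hxa]⟩
    · obtain ⟨k, hk, -⟩ := h2 a y x a hy.symm hxa
      exact ⟨k, hk⟩
  choose mv hmv using hch
  let f : Ω × Ω → Set Ω := fun q => mv q.1 • s.blk ((mv q.1)⁻¹ • q.2)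
  have hne : ∀ q : Ω × Ω, q.1 ≠ q.2 → (mv q.1)⁻¹ • q.2 ≠ a := fun q hq e =>
    hq (by rw [← hmv q.1, ← e, smul_inv_smul])
  -- two points determine the set
  have key : ∀ q : Ω × Ω, q.1 ≠ q.2 → ∀ w, w ≠ a → ∀ k : G, q.1 ∈ k • s.blk w → q.2 ∈ k • s.blk w →
      f q = k • s.blk w := by
    intro q hq w hw k h1 h2'
    rw [Set.mem_smul_set_iff_inv_smul_mem] at h1
    obtain ⟨g₁, y₁, -, hga, hgb⟩ := full w hw _ h1
    set m := (k * g₁)⁻¹ * mv q.1 with hm
    have hma : m • a = a := by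
      rw [hm, mul_smul, hmv, inv_smul_eq_iff, mul_smul, hga, smul_inv_smul]
    have hin : m • ((mv q.1)⁻¹ • q.2) ∈ s.blk y₁ := by
      rw [hm, ← mul_smul, mul_assoc, mul_inv_cancel, mul_one, ← Set.mem_smul_set_iff_inv_smul_mem,
        mul_smul, hgb]
      exact h2'
    have hin' : m • ((mv q.1)⁻¹ • q.2) ∈ s.cls y₁ :=
      hin.resolve_left (smul_ne hma (hne q hq))
    have he : m • s.blk ((mv q.1)⁻¹ • q.2) = s.blk y₁ := by
      rw [s.smul_blk hma, blk, blk, s.cls_eq (s.symm _ _ hin')]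
    calc f q = (mv q.1) • s.blk ((mv q.1)⁻¹ • q.2) := rfl
      _ = (k * g₁ * m) • s.blk ((mv q.1)⁻¹ • q.2) := by rw [hm, mul_inv_cancel_left]
      _ = k • s.blk w := by rw [mul_smul, he, mul_smul, hgb]
  let off : Finset (Ω × Ω) := Finset.univ.offDiag
  have hfib : ∀ L ∈ off.image f, (off.filter fun q => f q = L).card = (p + 1) * p := by
    intro L hL
    obtain ⟨q, hq, rfl⟩ := Finset.mem_image.mp hL
    have hq' : q.1 ≠ q.2 := (Finset.mem_offDiag.mp hq).2.2
    have hw := hne q hq'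
    have heq : off.filter (fun q' => f q' = f q) = (f q).toFinset.offDiag := by
      ext q'
      simp only [Finset.mem_filter, Finset.mem_offDiag, Set.mem_toFinset, off, Finset.mem_univ,
        true_and]
      constructor
      · rintro ⟨hd, he⟩
        refine ⟨?_, ?_, hd⟩
        · rw [← he]
          exact ⟨a, Set.mem_insert _ _, hmv _⟩
        · rw [← he]
          exact ⟨_, Set.mem_insert_of_mem _ (s.self_mem_cls (hne q' hd)), smul_inv_smul _ _⟩
      · rintro ⟨h1, h2', hd⟩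
        exact ⟨hd, key q' hd _ hw _ h1 h2'⟩
    rw [heq, Finset.offDiag_card, ← Set.ncard_eq_toFinset_card', Set.ncard_smul_set,
      s.ncard_blk hw, ← Nat.mul_sub_one]
    rfl
  have hcount : off.card = (off.image f).card * ((p + 1) * p) := by
    rw [Finset.card_eq_sum_card_image f off, Finset.sum_congr rfl hfib, Finset.sum_const, smul_eq_mul]
  rw [Finset.offDiag_card, Finset.card_univ, hΩ, ← Nat.mul_sub_one, Nat.add_sub_cancel] at hcount
  have hdvd : p + 1 ∣ (p ^ 2 + 1) * p ^ 2 := by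
    rw [hcount]; exact Dvd.dvd.mul_left (dvd_mul_right _ _) _
  have hcop : Nat.Coprime (p + 1) (p ^ 2) := Nat.Coprime.pow_right 2 (by simp)
  have h1 : p + 1 ∣ p ^ 2 + 1 := hcop.dvd_of_dvd_mul_right hdvd
  have h3 : p + 1 ∣ 2 * p + 2 := ⟨2, by ring⟩
  have h4 : p + 1 ∣ p ^ 2 + 1 + (2 * p + 2) := Nat.dvd_add h1 h3
  have h5 : p + 1 ∣ (p + 1) * (p + 1) := dvd_mul_right _ _
  rw [show p ^ 2 + 1 + (2 * p + 2) = (p + 1) * (p + 1) + 2 by ring] at h4
  have := Nat.le_of_dvd two_pos ((Nat.dvd_add_right h5).mp h4)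
  have := hp.out.two_le
  omega

variable (h2 : TwoTrans G Ω) (hΩ : Fintype.card Ω = p ^ 2 + 1) {b : Ω} (hb : b ≠ a) {t : G}
  (hta : t • a = b) (htb : t • b = a)

include h2 hΩ hb hta

/-- No element swapping `a` and `b` fixes the set through them. -/
theorem asym : t • s.blk b ≠ s.blk b := fun h =>
  hb (hta ▸ s.blk_inj h2 hΩ hb hb h)

/-- The stabilizer of the transported set fixes `b`. -/
theorem stab_fix {g : G} (h : g • t • s.blk b = t • s.blk b) : g • b = b := by
  have h' : (t⁻¹ * g * t) • s.blk b = s.blk b := by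
    rw [mul_smul, mul_smul, h, inv_smul_smul]
  have := s.blk_inj h2 hΩ hb hb h'
  rw [mul_smul, mul_smul, hta, inv_smul_eq_iff, hta] at this
  exact this

end Sys

theorem swap_normalizes {a b : Ω} {t : G} (hta : t • a = b) (htb : t • b = a) {g : G} (hg : g ∈ stab2 G a b) :
    t * g * t⁻¹ ∈ stab2 G a b := by
  rw [mem_stab2] at hg ⊢
  have h1 : t⁻¹ • a = b := inv_smul_eq_iff.mpr htb.symm
  have h3 : t⁻¹ • b = a := inv_smul_eq_iff.mpr hta.symm
  simp only [mul_smul, h1, h3, hg.1, hg.2, hta, htb, and_self]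

end Cfsg.Agent.SquarePlusOne
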