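import Mathlib.RingTheory.Polynomial.Cyclotomic.Roots
import Mathlib.RingTheory.Polynomial.Cyclotomic.Expand
import Mathlib.FieldTheory.KummerPolynomial
import Mathlib.FieldTheory.Minpoly.IsIntegrallyClosed
import Mathlib.FieldTheory.IntermediateField.Adjoin.Basic
import Mathlib.Analysis.Complex.Basic

/-!
# Sums of roots of unity whose `p`-th power is rational up to a root of unity
-/

set_option autoImplicit false

namespace Cfsg.Agent.SquarePlusOne

open Polynomial

variable {p : ℕ} [hp : Fact p.Prime] {ζ : ℂ}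

/-- The character of `ZMod p` attached to a root of unity. -/
noncomputable def chi (ζ : ℂ) (i : ZMod p) : ℂ := ζ ^ i.val

theorem chi_add (hζ : IsPrimitiveRoot ζ p) (i j : ZMod p) : chi ζ (i + j) = chi ζ i * chi ζ j := by
  rw [chi, chi, chi, ← pow_add, ← pow_mod_orderOf ζ (i.val + j.val), ← hζ.eq_orderOf, ← ZMod.val_add]

theorem chi_zero : chi ζ (0 : ZMod p) = 1 := by simp [chi]

/-- A rational vanishing combination of the roots of unity has constant coefficients. -/
theorem const_of_sum_eq_zero (hζ : IsPrimitiveRoot ζ p) (f : ZMod p → ℚ)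
    (h : ∑ i, (f i : ℂ) * chi ζ i = 0) (i j : ZMod p) : f i = f j := by
  set Q : ℚ[X] := ∑ i : ZMod p, C (f i) * X ^ i.val with hQ
  have hev : aeval ζ Q = 0 := by
    simp only [hQ, map_sum, map_mul, map_pow, aeval_C, aeval_X]
    simpa [chi] using h
  have hmin := cyclotomic_eq_minpoly_rat hζ hp.out.pos
  have hdvd : cyclotomic p ℚ ∣ Q := hmin ▸ minpoly.dvd ℚ ζ hev
  obtain ⟨R, hR⟩ := hdvd
  have hdeg : Q.natDegree ≤ p - 1 := by
    refine natDegree_sum_le_of_forall_le _ _ fun k _ => ?_
    refine (natDegree_C_mul_X_pow_le _ _).trans ?_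
    have := ZMod.val_lt k
    omega
  have hcoef : ∀ k : ZMod p, Q.coeff k.val = f k := by
    intro k
    rw [hQ, finsetSum_coeff, Finset.sum_eq_single k]
    · simp
    · intro b _ hb
      simp [coeff_X_pow, Ne.symm (fun e => hb (ZMod.val_injective p e) : b.val ≠ k.val)]
    · simp
  obtain ⟨c, hc⟩ : ∃ c, R = C c := by
    by_cases hR0 : R = 0
    · exact ⟨0, by simp [hR0]⟩
    refine ⟨R.coeff 0, eq_C_of_natDegree_eq_zero ?_⟩
    rw [hR, natDegree_mul (cyclotomic_ne_zero p ℚ) hR0, natDegree_cyclotomic,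
      Nat.totient_prime hp.out] at hdeg
    omega
  have key : ∀ k : ZMod p, f k = c := by
    intro k
    rw [← hcoef k, hR, hc, cyclotomic_prime, coeff_mul_C, finsetSum_coeff,
      Finset.sum_eq_single k.val]
    · simp
    · intro b _ hb
      simp [coeff_X_pow, Ne.symm hb]
    · intro hk
      exact absurd (Finset.mem_range.mpr (ZMod.val_lt k)) hk
  rw [key i, key j]

/-- The congruence part: the twist is trivial. -/
theorem twist_eq_zero (hζ : IsPrimitiveRoot ζ p) (hp2 : p ≠ 2) (D : Finset (ZMod p)) (l : ZMod p)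
    (r : ℤ) (h : (∑ d ∈ D, chi ζ d) ^ p * chi ζ l = (r : ℂ)) :
    (D.card : ZMod p) = 0 ∨ l = 0 := by
  set F : ℤ[X] := (∑ d ∈ D, X ^ d.val) ^ p * X ^ l.val - C r with hF
  have hev : aeval ζ F = 0 := by
    simp only [hF, map_sub, map_mul, map_pow, map_sum, aeval_X, eq_intCast]
    simpa [chi, sub_eq_zero] using h
  have hmin := cyclotomic_eq_minpoly hζ hp.out.pos
  have hdvd : cyclotomic p ℤ ∣ F :=
    hmin ▸ minpoly.isIntegrallyClosed_dvd (hζ.isIntegral hp.out.pos) hev
  have hcyc : cyclotomic p (ZMod p) = (X - 1) ^ (p - 1) := by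
    have h1 := cyclotomic_prime_mul_X_sub_one (ZMod p) p
    have h2 : (X : (ZMod p)[X]) ^ p - 1 = (X - 1) ^ p := by rw [sub_pow_char, one_pow]
    have h3 : ((X : (ZMod p)[X]) - 1) ^ p = (X - 1) ^ (p - 1) * (X - 1) := by
      rw [← pow_succ]; congr 1; have := hp.out.pos; omega
    rw [h2, h3] at h1
    exact mul_right_cancel₀ (X_sub_C_ne_zero (1 : ZMod p)) (by simpa using h1)
  have hd := Polynomial.map_dvd (Int.castRingHom (ZMod p)) hdvd
  rw [map_cyclotomic, hcyc] at hd
  obtain ⟨R, hR⟩ := (pow_dvd_pow (X - 1 : (ZMod p)[X])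
    (by have := hp.out.two_le; omega : 2 ≤ p - 1)).trans hd
  have hder := congrArg (fun q => (derivative q).eval 1) hR
  simp [hF, derivative_pow, Polynomial.map_sum, eval_finsetSum, pow_two,
    ZMod.pow_card] at hder
  exact hder

/-- If a sum over `D` has a rational `p`-th power after a twist, then `D` is trivial. -/
theorem card_trivial (hζ : IsPrimitiveRoot ζ p) (hp2 : p ≠ 2) (D : Finset (ZMod p)) (l : ZMod p)
    (r : ℤ) (h : (∑ d ∈ D, chi ζ d) ^ p * chi ζ l = (r : ℂ)) : D.card ≤ 1 ∨ p ≤ D.card + 1 := by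
  have hle : D.card ≤ p := D.card_le_univ.trans (ZMod.card p).le
  rcases twist_eq_zero hζ hp2 D l r h with h0 | rfl
  · rw [ZMod.natCast_eq_zero_iff] at h0
    rcases Nat.eq_zero_or_pos D.card with h1 | h1
    · left; omega
    · right; have := Nat.le_of_dvd h1 h0; omega
  rw [chi_zero, mul_one] at h
  set S := ∑ d ∈ D, chi ζ d with hS
  obtain ⟨s, hs⟩ : ∃ s : ℚ, s ^ p = (r : ℚ) := by
    by_contra! hcon
    have hirr := X_pow_sub_C_irreducible_of_prime hp.out hcon
    have hmon : (X ^ p - C (r : ℚ)).Monic := monic_X_pow_sub_C _ hp.out.ne_zero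
    have hmin : X ^ p - C (r : ℚ) = minpoly ℚ S :=
      minpoly.eq_of_irreducible_of_monic hirr (by simp [h]) hmon
    have hint : IsIntegral ℚ ζ := (hζ.isIntegral hp.out.pos).tower_top
    have hmem : S ∈ IntermediateField.adjoin ℚ {ζ} :=
      sum_mem fun d _ => pow_mem (IntermediateField.mem_adjoin_simple_self ℚ ζ) _
    haveI := IntermediateField.adjoin.finiteDimensional hint
    have hdeg := minpoly.natDegree_le (A := ℚ) (⟨S, hmem⟩ : IntermediateField.adjoin ℚ {ζ})
    rw [IntermediateField.adjoin.finrank hint, ← cyclotomic_eq_minpoly_rat hζ hp.out.pos,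
      natDegree_cyclotomic, Nat.totient_prime hp.out,
      minpoly.algebraMap_eq (FaithfulSMul.algebraMap_injective _ ℂ) (⟨S, hmem⟩ :
        IntermediateField.adjoin ℚ {ζ}) |>.symm] at hdeg
    change (minpoly ℚ S).natDegree ≤ _ at hdeg
    rw [← hmin, natDegree_X_pow_sub_C] at hdeg
    have := hp.out.pos
    omega
  obtain ⟨i, hi⟩ : ∃ i : ZMod p, S = (s : ℂ) * chi ζ i := by
    by_cases hs0 : s = 0
    · refine ⟨0, ?_⟩
      have hr : (r : ℚ) = 0 := by rw [← hs, hs0, zero_pow hp.out.ne_zero]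
      have : S ^ p = 0 := by rw [h]; exact_mod_cast hr
      simp [hs0, pow_eq_zero_iff hp.out.ne_zero |>.mp this]
    · have hu : (S / (s : ℂ)) ^ p = 1 := by
        rw [div_pow, h, ← Rat.cast_pow, hs, Rat.cast_intCast, div_self]
        have : (r : ℚ) ≠ 0 := by rw [← hs]; exact pow_ne_zero _ hs0
        exact_mod_cast this
      obtain ⟨n, hn, hn'⟩ := hζ.eq_pow_of_pow_eq_one hu
      refine ⟨(n : ZMod p), ?_⟩
      rw [chi, ZMod.val_natCast, Nat.mod_eq_of_lt hn, hn', mul_div_cancel₀]
      exact_mod_cast hs0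
  classical
  let f : ZMod p → ℚ := fun d => (if d ∈ D then 1 else 0) - (if d = i then s else 0)
  have hf : ∑ d, (f d : ℂ) * chi ζ d = 0 := by
    simp only [f, Rat.cast_sub, sub_mul, Finset.sum_sub_distrib, apply_ite (Rat.cast : ℚ → ℂ),
      Rat.cast_one, Rat.cast_zero, ite_mul, one_mul, zero_mul, Finset.sum_ite_mem,
      Finset.univ_inter, Finset.sum_ite_eq', Finset.mem_univ, if_true]
    exact sub_eq_zero.mpr hi
  have hc := const_of_sum_eq_zero hζ f hf
  by_cases hall : D ⊆ {i}
  · left; simpa using Finset.card_le_card hall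
  · right
    obtain ⟨d, hd, hdi⟩ := Finset.not_subset.mp hall
    rw [Finset.mem_singleton] at hdi
    have : Finset.univ.erase i ⊆ D := by
      intro e he
      have hei := Finset.ne_of_mem_erase he
      have := hc e d
      simp only [f, if_neg hei, if_neg hdi, sub_zero, if_pos hd] at this
      by_contra hne
      simp [hne] at this
    have := Finset.card_le_card this
    rw [Finset.card_erase_of_mem (Finset.mem_univ _), Finset.card_univ, ZMod.card] at this
    omega

end Cfsg.Agent.SquarePlusOne
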