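import Cfsg.Agent.Lib.Recog.SquarePlusOne.Setup
import Cfsg.Agent.Lib.Recog.SquarePlusOne.Cyclo
import Mathlib.Analysis.SpecialFunctions.Complex.Log
import Mathlib.RingTheory.RootsOfUnity.Complex

/-!
# The kernel of the block action is doubly transitive on a block: impossible
-/

set_option autoImplicit false
set_option linter.unusedSectionVars false

namespace Cfsg.Agent.SquarePlusOne

open MulAction
open scoped Pointwise

universe u v

variable {G : Type u} [Group G] [Finite G] {Ω : Type v} [Fintype Ω] [MulAction G Ω]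
  [FaithfulSMul G Ω]
variable {p : ℕ} [hp : Fact p.Prime] {a b : Ω} (C : Ctx G Ω p a b)

open scoped Classical in
/-- Number of walks from a point along a relation. -/
noncomputable def walk (Ed : Ω → Ω → Prop) (b : Ω) : ℕ → Ω → ℤ
  | 0, z => if z = b then 1 else 0
  | n + 1, z => ∑ x, if Ed x z then walk Ed b n x else 0

namespace Ctx

/-- Transitivity of the kernel stabilizer on the rest of the block. -/
def KTrans : Prop :=
  ∀ x ∈ C.s.cls b, ∀ y ∈ C.s.cls b, x ≠ b → y ≠ b → ∃ k ∈ C.K, k • b = b ∧ k • x = y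

theorem pow_notMem {g : G} (hg : g ∈ C.P) (hgR : g ∉ C.R) {n : ℕ} (hn : 0 < n) (hnp : n < p) :
    g ^ n ∉ C.R := by
  intro h
  apply hgR
  have hcop : Nat.Coprime n (orderOf g) := by
    have hd : orderOf g ∣ p ^ 2 := C.card ▸ Subgroup.orderOf_dvd_natCard _ hg
    obtain ⟨m, -, hm⟩ := (Nat.dvd_prime_pow hp.out).mp hd
    rw [hm]
    exact Nat.Coprime.pow_right m ((hp.out.coprime_iff_not_dvd.mpr (Nat.not_dvd_of_pos_of_lt hn hnp)).symm)
  obtain ⟨m, hm⟩ := exists_pow_eq_self_of_coprime hcop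
  exact hm ▸ C.R.pow_mem h m

theorem decomp {g : G} (hg : g ∈ C.P) (hgR : g ∉ C.R) {x : G} (hx : x ∈ C.P) :
    ∃ n < p, ∃ q ∈ C.R, x = g ^ n * q := by
  let f : Fin p × C.R → C.P := fun w =>
    ⟨g ^ (w.1 : ℕ) * w.2, C.P.mul_mem (C.P.pow_mem hg _) w.2.2.1⟩
  have hinj : Function.Injective f := by
    rintro ⟨m, q⟩ ⟨n, q'⟩ he
    have he' : g ^ (m : ℕ) * (q : G) = g ^ (n : ℕ) * q' := congrArg Subtype.val he
    have key : ∀ {u v : ℕ} {w w' : G}, u ≤ v → v < p → w ∈ C.R → w' ∈ C.R →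
        g ^ u * w = g ^ v * w' → u = v := by
      intro u v w w' huv hv hw hw' heq
      by_contra hne
      apply C.pow_notMem hg hgR (n := v - u) (by omega) (by omega)
      have : g ^ (v - u) = w * w'⁻¹ := by
        rw [eq_mul_inv_iff_mul_eq]
        refine mul_left_cancel (a := g ^ u) ?_
        rw [← mul_assoc, ← pow_add, Nat.add_sub_cancel' huv]
        exact heq.symm
      rw [this]
      exact C.R.mul_mem hw (C.R.inv_mem hw')
    have hmn : (m : ℕ) = n := by
      rcases le_total (m : ℕ) n with h | h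
      · exact key h n.2 q.2 q'.2 he'
      · exact (key h m.2 q'.2 q.2 he'.symm).symm
    obtain rfl := Fin.ext hmn
    exact Prod.ext rfl (Subtype.ext (mul_left_cancel he'))
  have hbij := (Nat.bijective_iff_injective_and_card f).mpr ⟨hinj, by
    rw [Nat.card_prod, Nat.card_fin, C.card_R, C.card]; ring⟩
  obtain ⟨⟨n, q⟩, he⟩ := hbij.2 ⟨x, hx⟩
  exact ⟨n, n.2, q, q.2, (congrArg Subtype.val he).symm⟩

theorem pow_p_mem {g : G} (hg : g ∈ C.P) (hgR : g ∉ C.R) : g ^ p ∈ C.R := by
  obtain ⟨n, hn, q, hq, he⟩ := C.decomp hg hgR (C.P.pow_mem hg p)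
  rcases Nat.eq_zero_or_pos n with rfl | h0
  · rw [he, pow_zero, one_mul]; exact hq
  exfalso
  apply C.pow_notMem hg hgR (n := p - n) (by omega) (by omega)
  have : g ^ (p - n) = q := by
    refine mul_left_cancel (a := g ^ n) ?_
    rw [← pow_add, Nat.add_sub_cancel' hn.le, he]
  exact this ▸ hq

theorem notMem_R {g : G} (hg : g • b ∉ C.s.cls b) : g ∉ C.R := fun h => hg h.2

theorem KTrans.moved (hK : C.KTrans) (hp2 : p ≠ 2) {σ y : Ω} (hy : C.s.r σ y) (hne : y ≠ σ)
    (hfix : ∀ k ∈ C.K, k • σ = σ → k • y = y) : False := by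
  have h3 : 3 ≤ p := by have := hp.out.two_le; omega
  obtain ⟨g, hg, rfl⟩ := C.trans σ (C.s.ne _ _ hy).1
  have hy' : g⁻¹ • y ∈ C.s.cls b := by
    have := C.s.inv g⁻¹ (Sys.inv_fix (C.le hg)) _ _ hy
    rwa [inv_smul_smul] at this
  have hne' : g⁻¹ • y ≠ b := fun h => hne (by rw [← h, smul_inv_smul])
  obtain ⟨z, hz, hzb, hzy⟩ : ∃ z ∈ C.s.cls b, z ≠ b ∧ z ≠ g⁻¹ • y := by
    by_contra! h
    have hle := Set.ncard_le_ncard (t := {b, g⁻¹ • y}) (s := C.s.cls b) (fun z hz => by
      by_cases hzb : z = b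
      · exact Or.inl hzb
      · exact Or.inr (h z hz hzb)) (Set.toFinite _)
    rw [Sys.cls, C.s.card b C.hb] at hle
    have := (Set.ncard_insert_le b ({g⁻¹ • y} : Set Ω))
    rw [Set.ncard_singleton] at this
    omega
  obtain ⟨k, hk, hkb, hkz⟩ := hK _ hy' z hz hne' hzb
  have h := hfix (g * k * g⁻¹) (C.K_conj (C.le hg) hk) (by simp [mul_smul, hkb])
  rw [mul_smul, mul_smul, hkz, smul_eq_iff_eq_inv_smul] at h
  exact hzy h

theorem stab2_eq_of_fix (C : Ctx G Ω p a b) {y : Ω} (hy : y ≠ a) (h : ∀ g ∈ stab2 G a b, g • y = y) :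
    stab2 G a b = stab2 G a y := by
  refine Subgroup.eq_of_le_of_card_ge (fun g hg => ⟨hg.1, h g hg⟩) (le_of_eq ?_)
  have h1 := (card_stab C.h2 C.hΩ hy).symm.trans (card_stab C.h2 C.hΩ C.hb)
  exact Nat.eq_of_mul_eq_mul_left (pow_pos hp.out.pos 2) h1

/-- The stabilizer of `b` in the kernel fixes a point in another block. -/
theorem case_one_fix (hp2 : p ≠ 2) (hK : C.KTrans) {c : Ω} (hca : c ≠ a) (hcb : c ∉ C.s.cls b)
    (hfix : ∀ k ∈ C.K, k • b = b → k • c = c) : False := by
  obtain ⟨g, hg, hgc⟩ := C.trans c hca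
  have hgR : g ∉ C.R := C.notMem_R (hgc ▸ hcb)
  have hga : g • a = a := C.le hg
  -- conjugation by `g` preserves the stabilizer
  have hconj : ∀ k ∈ C.K, k • b = b → g⁻¹ * k * g ∈ C.K ∧ (g⁻¹ * k * g) • b = b := by
    intro k hk hkb
    refine ⟨by simpa using C.K_conj (Sys.inv_fix hga) hk, ?_⟩
    rw [mul_smul, mul_smul, hgc, hfix k hk hkb, ← hgc, inv_smul_smul]
  have hpow : ∀ n : ℕ, ∀ k ∈ C.K, k • b = b → k • g ^ n • b = g ^ n • b := by
    intro n
    induction n with
    | zero => intro k _ hkb; simpa using hkb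
    | succ n ih =>
      intro k hk hkb
      obtain ⟨h1, h2⟩ := hconj k hk hkb
      have := ih _ h1 h2
      rw [mul_smul, mul_smul, inv_smul_eq_iff] at this
      rw [pow_succ', mul_smul, this]
  -- stabilizers of all the translates are equal
  have hback : ∀ n : ℕ, ∀ k ∈ C.K, k • g ^ n • b = g ^ n • b → k • b = b := by
    intro n k hk hkn
    have h1 : (g ^ n)⁻¹ * k * g ^ n ∈ C.K := by
      simpa using C.K_conj (Sys.inv_fix (C.le (C.P.pow_mem hg n))) hk
    obtain ⟨j, hj⟩ : ∃ j : ℕ, g ^ j = (g ^ n)⁻¹ :=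
      ⟨(orderOf g - 1) * n, eq_inv_of_mul_eq_one_left (by
        rw [← pow_add, ← Nat.succ_mul, Nat.succ_eq_add_one, Nat.sub_add_cancel (orderOf_pos g),
          pow_mul, pow_orderOf_eq_one, one_pow])⟩
    have := hpow j _ h1 (by rw [mul_smul, mul_smul, hkn, inv_smul_smul])
    rw [hj, mul_smul, mul_smul, smul_inv_smul, smul_left_cancel_iff] at this
    exact this
  let Sig : Set Ω := {x | x ≠ a ∧ ∀ k ∈ C.K, k • b = b → k • x = x}
  have hclassify : ∀ x, x ≠ a → ∃ n < p, C.s.r (g ^ n • b) x ∧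
      (x ∈ Sig ↔ x = g ^ n • b) := by
    intro x hx
    obtain ⟨q, hq, rfl⟩ := C.trans x hx
    obtain ⟨n, hn, w, hw, rfl⟩ := C.decomp hg hgR hq
    have hr : C.s.r (g ^ n • b) ((g ^ n * w) • b) := by
      rw [C.r_iff (C.P.pow_mem hg n) hq, inv_mul_cancel_left]; exact hw
    refine ⟨n, hn, hr, fun h => ?_, fun h => ?_⟩
    · by_contra hne
      exact hK.moved C hp2 hr hne fun k hk hkσ => h.2 k hk (hback n k hk hkσ)
    · exact ⟨hx, fun k hk hkb => h ▸ hpow n k hk hkb⟩
  have hbSig : b ∈ Sig := ⟨C.hb, fun k _ h => h⟩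
  have hgSig : ∀ x ∈ Sig, g • x ∈ Sig := by
    intro x hx
    refine ⟨Sys.smul_ne hga hx.1, fun k hk hkb => ?_⟩
    obtain ⟨h1, h2⟩ := hconj k hk hkb
    have := hx.2 _ h1 h2
    rwa [mul_smul, mul_smul, inv_smul_eq_iff] at this
  have hSigcard : Sig.ncard = p := by
    have himg : Sig = Set.range fun n : Fin p => g ^ (n : ℕ) • b := by
      ext x
      constructor
      · intro hx
        obtain ⟨n, hn, -, hiff⟩ := hclassify x hx.1
        exact ⟨⟨n, hn⟩, (hiff.mp hx).symm⟩
      · rintro ⟨n, rfl⟩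
        exact ⟨C.smul_b_ne (C.P.pow_mem hg _), hpow n⟩
    rw [himg, Set.ncard_range_of_injective, Nat.card_fin]
    intro m n he
    have he' := C.P_inj (C.P.pow_mem hg m) (C.P.pow_mem hg n) he
    by_contra hne
    rcases lt_or_gt_of_ne (Fin.val_ne_of_ne hne) with h | h
    · apply C.pow_notMem hg hgR (n := (n : ℕ) - m) (by omega) (by omega)
      rw [(mul_eq_left (a := g ^ (m : ℕ)) (b := g ^ ((n : ℕ) - m))).mp
        (by rw [← pow_add, Nat.add_sub_cancel' h.le]; exact he'.symm)]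
      exact C.R.one_mem
    · apply C.pow_notMem hg hgR (n := (m : ℕ) - n) (by omega) (by omega)
      rw [(mul_eq_left (a := g ^ (n : ℕ)) (b := g ^ ((m : ℕ) - n))).mp
        (by rw [← pow_add, Nat.add_sub_cancel' h.le]; exact he')]
      exact C.R.one_mem
  obtain ⟨haS, hbS, hSne, hScard⟩ := C.S_props
  have hKH : ∀ k ∈ C.K, k • b = b → k • C.S = C.S := fun k hk hkb => C.smul_S ⟨hk.1, hkb⟩
  by_cases hout : ∃ e ∈ C.S, e ≠ a ∧ e ∉ Sig
  · obtain ⟨e, heS, hea, heSig⟩ := hout
    obtain ⟨n, hn, hr, hiff⟩ := hclassify e hea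
    set σ := g ^ n • b with hσ
    have heσ : e ≠ σ := fun h => heSig (hiff.mpr h)
    have hσa : σ ≠ a := C.smul_b_ne (C.P.pow_mem hg n)
    -- the whole rest of the block lies in the transported set
    have hsub : insert a (insert b (C.s.cls σ \ {σ})) ⊆ C.S := by
      rintro y (rfl | rfl | ⟨hy, hyσ⟩)
      · exact haS
      · exact hbS
      · have hq := C.P.pow_mem hg n
        have hpre : ∀ {w : Ω}, w ∈ C.s.cls σ → (g ^ n)⁻¹ • w ∈ C.s.cls b := by
          intro w hw
          have := C.s.inv (g ^ n)⁻¹ (Sys.inv_fix (C.le hq)) _ _ hw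
          rwa [hσ, inv_smul_smul] at this
        have hne' : ∀ {w : Ω}, w ≠ σ → (g ^ n)⁻¹ • w ≠ b := fun hw h => hw (by rw [hσ, ← h, smul_inv_smul])
        obtain ⟨k, hk, hkb, hke⟩ := hK _ (hpre hr) _ (hpre hy) (hne' heσ) (hne' hyσ)
        have hk' := C.K_conj (C.le hq) hk
        have hk'b := hback n _ hk' (by simp [mul_smul, hkb])
        rw [← hKH _ hk' hk'b]
        exact ⟨e, heS, by simp [mul_smul, hke]⟩
    have hn0 : n ≠ 0 := by
      intro hn0
      have hσb : σ = b := by rw [hσ, hn0, pow_zero, one_smul]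
      have hss : C.s.blk b ⊆ insert a (insert b (C.s.cls σ \ {σ})) := by
        rintro y (rfl | hy)
        · exact Or.inl rfl
        · by_cases hyb : y = b
          · exact Or.inr (Or.inl hyb)
          · exact Or.inr (Or.inr ⟨by rw [hσb]; exact hy, by rw [Set.mem_singleton_iff, hσb]; exact hyb⟩)
      exact hSne (Set.eq_of_subset_of_ncard_le (hss.trans hsub)
        (by rw [hScard, C.s.ncard_blk C.hb]) (Set.toFinite _)).symm
    have hbσ : b ∉ C.s.cls σ := by
      intro hb'
      exact C.pow_notMem hg hgR (Nat.pos_of_ne_zero hn0) hn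
        ⟨C.P.pow_mem hg n, C.s.symm _ _ hb'⟩
    have hSeq : insert a (insert b (C.s.cls σ \ {σ})) = C.S := by
      refine Set.eq_of_subset_of_ncard_le hsub ?_ (Set.toFinite _)
      rw [hScard, Set.ncard_insert_of_notMem (by
          simp only [Set.mem_insert_iff, Set.mem_sdiff, not_or]
          exact ⟨C.hb.symm, fun h => C.s.notMem_cls σ h.1⟩) (Set.toFinite _),
        Set.ncard_insert_of_notMem (fun h => hbσ h.1) (Set.toFinite _),
        Set.ncard_sdiff (by simp [C.s.self_mem_cls hσa]) (Set.toFinite _), Set.ncard_singleton,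
        Sys.cls, C.s.card σ hσa]
      omega
    -- the two point stabilizer fixes this block, hence all blocks
    have hfixD : ∀ h ∈ stab2 G a b, h • C.s.cls σ = C.s.cls σ := by
      intro h hh
      have hhe : h • e ∈ C.S := C.smul_S hh ▸ Set.smul_mem_smul_set heS
      rw [← hSeq] at hhe
      rcases hhe with h1 | h1 | h1
      · exact absurd h1 (Sys.smul_ne hh.1 hea)
      · exact absurd (smul_left_cancel h (h1.trans hh.2.symm)) fun he => heSig (he ▸ hbSig)
      · rw [C.s.cls_eq hr, C.s.smul_cls hh.1]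
        exact (C.s.cls_eq (C.s.trans _ _ _ (C.s.symm _ _ hr) h1.1)).symm
    have hfixA : ∀ h : G, h • a = a → h • C.s.cls b = C.s.cls b → h • C.s.cls σ = C.s.cls σ := by
      intro h hha hhb
      have hb1 : h • b ∈ C.s.cls b := hhb ▸ Set.smul_mem_smul_set (C.s.self_mem_cls C.hb)
      obtain ⟨w, hw, hwb⟩ := C.mem_cls_b.mp hb1
      have hmem : w⁻¹ * h ∈ stab2 G a b :=
        mem_stab2.mpr ⟨by rw [mul_smul, hha]; exact Sys.inv_fix (C.le hw.1),
          by rw [mul_smul, inv_smul_eq_iff, hwb]⟩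
      have := hfixD _ hmem
      rw [mul_smul, inv_smul_eq_iff] at this
      rw [this, C.K_cls (C.R_le_K hw)]
      exact (C.s.cls_eq ((C.R_le_K hw).2 σ hσa)).symm
    have hHK : ∀ h ∈ stab2 G a b, h ∈ C.K := by
      intro h hh
      have hchain : ∀ j : ℕ, h • C.s.cls (g ^ (n * j) • b) = C.s.cls (g ^ (n * j) • b) := by
        intro j
        induction j with
        | zero => rw [mul_zero, pow_zero, one_smul, C.s.smul_cls hh.1, hh.2]
        | succ j ih =>
          set q := g ^ (n * j) with hq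
          have hqP : q ∈ C.P := C.P.pow_mem hg _
          have h1 : (q⁻¹ * h * q) • a = a := by
            rw [mul_smul, mul_smul, show q • a = a from C.le hqP, show h • a = a from hh.1]
            exact Sys.inv_fix (C.le hqP)
          have h2 := hfixA _ h1 (by
            rw [mul_smul, mul_smul, C.s.smul_cls (C.le hqP) b, ih, ← C.s.smul_cls (C.le hqP) b,
              inv_smul_smul])
          rw [mul_smul, mul_smul, inv_smul_eq_iff, C.s.smul_cls (C.le hqP) σ, hσ, ← mul_smul,
            hq, ← pow_add, ← Nat.mul_succ] at h2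
          exact h2
      refine ⟨hh.1, fun x hx => ?_⟩
      obtain ⟨m, hm, hrm, -⟩ := hclassify x hx
      obtain ⟨j, hj⟩ : ∃ j, n * j ≡ m [MOD p] := by
        refine ⟨(((n : ZMod p)⁻¹ * m)).val, ?_⟩
        rw [← ZMod.natCast_eq_natCast_iff]
        push_cast
        rw [ZMod.natCast_zmod_val, mul_inv_cancel_left₀]
        rw [Ne, ZMod.natCast_eq_zero_iff]
        exact fun hd => by have := Nat.le_of_dvd (Nat.pos_of_ne_zero hn0) hd; omega
      have hrel : C.s.r (g ^ (n * j) • b) (g ^ m • b) := by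
        rw [C.r_iff (C.P.pow_mem hg _) (C.P.pow_mem hg _)]
        have hdiv : g ^ (n * j) = g ^ m * (g ^ p) ^ (n * j / p) := by
          rw [← pow_mul, ← pow_add]
          congr 1
          have := Nat.div_add_mod (n * j) p
          rw [hj, Nat.mod_eq_of_lt hm] at this
          omega
        rw [hdiv, mul_inv_rev, inv_mul_cancel_right]
        exact C.R.inv_mem (C.R.pow_mem (C.pow_p_mem hg hgR) _)
      have hx' : C.s.cls (g ^ (n * j) • b) = C.s.cls x := by
        rw [C.s.cls_eq hrel, C.s.cls_eq hrm]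
      have := hchain j
      rw [hx', C.s.smul_cls hh.1] at this
      show h • x ∈ C.s.cls x
      rw [← this]
      exact C.s.self_mem_cls (Sys.smul_ne hh.1 hx)
    -- the points fixed by the two point stabilizer form a system
    let s' : Sys G p a :=
      { r := fun x y => x ≠ a ∧ y ≠ a ∧ stab2 G a x = stab2 G a y
        ne := fun x y h => ⟨h.1, h.2.1⟩
        refl := fun x hx => ⟨hx, hx, rfl⟩
        symm := fun x y h => ⟨h.2.1, h.1, h.2.2.symm⟩
        trans := fun x y z h h' => ⟨h.1, h'.2.1, h.2.2.trans h'.2.2⟩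
        inv := fun q hq x y h => by
          refine ⟨Sys.smul_ne hq h.1, Sys.smul_ne hq h.2.1, ?_⟩
          ext w
          have key : ∀ z, w ∈ stab2 G a (q • z) ↔ q⁻¹ * w * q ∈ stab2 G a z := by
            intro z
            simp only [mem_stab2, mul_smul, inv_smul_eq_iff, hq]
          rw [key, key, h.2.2]
        card := by
          intro x hx
          obtain ⟨q, hqa, hqx⟩ := Sys.exists_move (a := a) C.h2 C.hb hx
          have : {y | x ≠ a ∧ y ≠ a ∧ stab2 G a x = stab2 G a y} = q • Sig := by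
            have key : ∀ z w, w ∈ stab2 G a (q • z) ↔ q⁻¹ * w * q ∈ stab2 G a z := by
              intro z w
              simp only [mem_stab2, mul_smul, inv_smul_eq_iff, hqa]
            ext y
            rw [Set.mem_smul_set_iff_inv_smul_mem]
            constructor
            · rintro ⟨-, hya, he⟩
              refine ⟨Sys.smul_ne (Sys.inv_fix hqa) hya, fun k hk hkb => ?_⟩
              have : q * k * q⁻¹ ∈ stab2 G a y := by
                rw [← he, ← hqx, key]
                simp [mul_assoc, mem_stab2, hk.1, hkb]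
              rw [← smul_inv_smul q y, key] at this
              simpa [mul_assoc] using this.2
            · rintro ⟨hya, hfx⟩
              have he := C.stab2_eq_of_fix hya fun w hw => hfx w (hHK w hw) hw.2
              refine ⟨hx, fun h => hya (by rw [h]; exact Sys.inv_fix hqa), ?_⟩
              ext w
              rw [← hqx, key, he, ← key, smul_inv_smul]
          rw [this, Set.ncard_smul_set, hSigcard] }
    refine s'.asym C.h2 C.hΩ C.hb C.hta ?_
    have hcls : s'.cls b = Sig := by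
      ext y
      constructor
      · rintro ⟨-, hya, he⟩
        exact ⟨hya, fun k hk hkb => ((le_of_eq he) ⟨hk.1, hkb⟩).2⟩
      · rintro ⟨hya, hfx⟩
        exact ⟨C.hb, hya, C.stab2_eq_of_fix hya fun w hw => hfx w (hHK w hw) hw.2⟩
    refine Set.eq_of_subset_of_ncard_le ?_ (by rw [Set.ncard_smul_set]) (Set.toFinite _)
    rintro _ ⟨y, hy, rfl⟩
    change C.t • y ∈ _
    rw [Sys.blk, hcls] at hy ⊢
    rcases hy with rfl | ⟨hya, hfx⟩
    · rw [C.hta]; exact Or.inr hbSig
    by_cases h : C.t • y = a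
    · exact Or.inl h
    refine Or.inr ⟨h, fun k hk hkb => ?_⟩
    have hk' := swap_normalizes (inv_smul_eq_iff.mpr C.htb.symm) (inv_smul_eq_iff.mpr C.hta.symm)
      (show k ∈ stab2 G a b from ⟨hk.1, hkb⟩)
    rw [inv_inv] at hk'
    have := hfx _ (hHK _ hk') hk'.2
    rwa [mul_smul, mul_smul, inv_smul_eq_iff] at this
  · push Not at hout
    have hSeq : C.S = insert a Sig := by
      refine Set.eq_of_subset_of_ncard_le ?_ ?_ (Set.toFinite _)
      · intro e he
        by_cases hea : e = a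
        · exact Or.inl hea
        · exact Or.inr (hout e he hea)
      · rw [hScard, Set.ncard_insert_of_notMem (fun h => h.1 rfl) (Set.toFinite _), hSigcard]
    have hgS : g • C.S = C.S := by
      refine Set.eq_of_subset_of_ncard_le ?_ (by rw [Set.ncard_smul_set]) (Set.toFinite _)
      rintro _ ⟨y, hy, rfl⟩
      rw [hSeq] at hy ⊢
      rcases hy with rfl | hy
      · exact Or.inl hga
      · exact Or.inr (hgSig y hy)
    exact hcb (hgc ▸ (C.stab_S hgS).symm ▸ C.s.self_mem_cls C.hb)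

/-- No point of another block is fixed: the intertwining operator is monomial, which is absurd. -/
theorem case_one_free (hp2 : p ≠ 2) (hK : C.KTrans)
    (hfree : ∀ c, c ≠ a → c ∉ C.s.cls b → ∃ k ∈ C.K, k • b = b ∧ k • c ≠ c) : False := by
  classical
  obtain ⟨c, hcS, hca, hcb⟩ := C.exists_outside
  obtain ⟨g, hg, hgc⟩ := C.trans c hca
  have hgR : g ∉ C.R := C.notMem_R (hgc ▸ hcb)
  obtain ⟨ρ, hρ, hR⟩ := C.exists_rho
  let pw : ZMod p → G := fun i => ρ ^ i.val
  have hpw : ∀ i, pw i ∈ C.R := fun i => hR ▸ Subgroup.pow_mem _ (Subgroup.mem_zpowers ρ) _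
  have hpwadd : ∀ i j, pw (i + j) = pw i * pw j := by
    intro i j
    simp only [pw, ← pow_add]
    rw [pow_eq_pow_iff_modEq, hρ, ZMod.val_add]
    exact Nat.mod_modEq _ _
  have hpwinj : Function.Injective pw := by
    intro i j h
    rw [pow_eq_pow_iff_modEq, hρ] at h
    exact ZMod.val_injective p (Nat.ModEq.eq_of_lt_of_lt h (ZMod.val_lt i) (ZMod.val_lt j))
  have hpwsurj : ∀ q ∈ C.R, ∃ i, pw i = q := by
    intro q hq
    have : Function.Bijective fun i => (⟨pw i, hpw i⟩ : C.R) :=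
      (Nat.bijective_iff_injective_and_card _).mpr
        ⟨fun i j h => hpwinj (congrArg Subtype.val h), by rw [Nat.card_zmod, C.card_R]⟩
    obtain ⟨i, hi⟩ := this.2 ⟨q, hq⟩
    exact ⟨i, congrArg Subtype.val hi⟩
  have hX : ∀ i (j : ℕ), pw i * g ^ j ∈ C.P := fun i j =>
    C.P.mul_mem (hpw i).1 (C.P.pow_mem hg j)
  let pt : ℕ → ZMod p → Ω := fun j i => (pw i * g ^ j) • b
  have hptinj : ∀ j, Function.Injective (pt j) := fun j i i' h =>
    hpwinj (mul_right_cancel (C.P_inj (hX i j) (hX i' j) h))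
  let D : Finset (ZMod p) := Finset.univ.filter fun i => ∃ k ∈ C.K, k • b = b ∧ k • c = pw i • c
  -- steps
  let Ed : Ω → Ω → Prop := fun x z => ∃ q ∈ C.P, ∃ k ∈ C.K, k • b = b ∧ q • b = x ∧ q • k • c = z
  have hEd : ∀ k ∈ C.K, ∀ x z, Ed x z → Ed (k • x) (k • z) := by
    rintro k' hk' _ _ ⟨q, hq, k, hk, hkb, rfl, rfl⟩
    have h1 : q⁻¹ * k' * q ∈ C.K := by simpa using C.K_conj (Sys.inv_fix (C.le hq)) hk'
    obtain ⟨w, hw, hwb⟩ := C.mem_cls_b.mp (show (q⁻¹ * k' * q) • b ∈ C.s.cls b from h1.2 b C.hb)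
    refine ⟨q * w, C.P.mul_mem hq hw.1, w⁻¹ * (q⁻¹ * k' * q) * k,
      C.K.mul_mem (C.K.mul_mem (C.K.inv_mem (C.R_le_K hw)) h1) hk, ?_, ?_, ?_⟩
    · rw [mul_smul, hkb, mul_smul, inv_smul_eq_iff, hwb]
    · simp [mul_smul, hwb]
    · simp [mul_smul]
  have hstep : ∀ j i z, Ed (pt j i) z ↔ ∃ d ∈ D, z = pt (j + 1) (i + d) := by
    intro j i z
    constructor
    · rintro ⟨q, hq, k, hk, hkb, hqb, rfl⟩
      obtain rfl := C.P_inj hq (hX i j) hqb
      obtain ⟨w, hw, hwc⟩ := C.exists_R_move (hk.2 c hca)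
      obtain ⟨d, rfl⟩ := hpwsurj w hw
      refine ⟨d, Finset.mem_filter.mpr ⟨Finset.mem_univ _, k, hk, hkb, hwc.symm⟩, ?_⟩
      rw [← hwc, ← hgc]
      simp only [pt, ← mul_smul, hpwadd]
      congr 1
      rw [mul_assoc, ← mul_assoc (g ^ j), C.comm _ (C.P.pow_mem hg j) _ (hpw d).1, mul_assoc,
        ← pow_succ, ← mul_assoc]
    · rintro ⟨d, hd, rfl⟩
      obtain ⟨k, hk, hkb, hkc⟩ := (Finset.mem_filter.mp hd).2
      refine ⟨_, hX i j, k, hk, hkb, rfl, ?_⟩
      rw [hkc, ← hgc]
      simp only [pt, ← mul_smul, hpwadd]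
      congr 1
      rw [mul_assoc, ← mul_assoc (g ^ j), C.comm _ (C.P.pow_mem hg j) _ (hpw d).1, mul_assoc,
        ← pow_succ, ← mul_assoc]
  let W : ℕ → Ω → ℤ := walk Ed b
  have hWsucc : ∀ j z, W (j + 1) z = ∑ x, if Ed x z then W j x else 0 := fun j z => by
    simp only [W, walk]
  have hW0 : ∀ z, W 0 z = if z = b then 1 else 0 := fun z => by simp only [W, walk]
  have hWinv : ∀ j, ∀ k ∈ C.K, k • b = b → ∀ z, W j (k • z) = W j z := by
    intro j
    induction j with
    | zero =>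
      intro k _ hkb z
      rw [hW0, hW0]
      simp [show k • z = b ↔ z = b from
        ⟨fun h => smul_left_cancel k (h.trans hkb.symm), fun h => h ▸ hkb⟩]
    | succ j ih =>
      intro k hk hkb z
      rw [hWsucc, hWsucc]
      refine (Fintype.sum_equiv (MulAction.toPerm k) _ _ fun x => ?_).symm
      simp only [MulAction.toPerm_apply]
      have hiff : Ed x z ↔ Ed (k • x) (k • z) := ⟨hEd k hk x z, fun h => by
        simpa using hEd k⁻¹ (C.K.inv_mem hk) _ _ h⟩
      rw [ih k hk hkb x]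
      simp [hiff]
  have hsupp : ∀ j z, W j z ≠ 0 → ∃ i, z = pt j i := by
    intro j
    induction j with
    | zero =>
      intro z hz
      refine ⟨0, ?_⟩
      have : z = b := by
        by_contra h
        exact hz (by rw [hW0, if_neg h])
      simp [this, pt, pw]
    | succ j ih =>
      intro z hz
      rw [hWsucc] at hz
      obtain ⟨x, -, hx⟩ := Finset.exists_ne_zero_of_sum_ne_zero hz
      have hxz : Ed x z := by by_contra h; exact hx (if_neg h)
      obtain ⟨i, rfl⟩ := ih x (by rw [if_pos hxz] at hx; exact hx)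
      obtain ⟨d, -, rfl⟩ := (hstep j i z).mp hxz
      exact ⟨i + d, rfl⟩
  have hrec : ∀ j e, W (j + 1) (pt (j + 1) e) = ∑ d ∈ D, W j (pt j (e - d)) := by
    intro j e
    rw [hWsucc]
    have himg : ∀ x, x ∉ Finset.univ.image (pt j) →
        (if Ed x (pt (j + 1) e) then W j x else 0) = 0 := by
      intro x hx
      by_cases hW : W j x = 0
      · simp [hW]
      · obtain ⟨i, rfl⟩ := hsupp j x hW
        exact absurd (Finset.mem_image.mpr ⟨i, Finset.mem_univ _, rfl⟩) hx
    rw [← Finset.sum_subset (Finset.subset_univ (Finset.univ.image (pt j))) fun x _ hx => himg x hx,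
      Finset.sum_image fun i _ i' _ h => hptinj j h]
    have hiff : ∀ i, Ed (pt j i) (pt (j + 1) e) ↔ e - i ∈ D := by
      intro i
      rw [hstep]
      constructor
      · rintro ⟨d, hd, he⟩
        obtain rfl := hptinj (j + 1) he
        simpa using hd
      · exact fun h => ⟨e - i, h, by simp⟩
    simp only [hiff]
    rw [← Fintype.sum_equiv (Equiv.subLeft e)
      (fun d => if d ∈ D then W j (pt j (e - d)) else 0) _ (fun d => by simp)]
    rw [Finset.sum_ite_mem, Finset.univ_inter]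
  let ζ : ℂ := Complex.exp (2 * Real.pi * Complex.I / p)
  have hζ : IsPrimitiveRoot ζ p := Complex.isPrimitiveRoot_exp p hp.out.ne_zero
  set Sd : ℂ := ∑ d ∈ D, chi ζ d with hSd
  have hu : ∀ j, ∑ e, (W j (pt j e) : ℂ) * chi ζ e = Sd ^ j := by
    intro j
    induction j with
    | zero =>
      rw [pow_zero, Finset.sum_eq_single 0]
      · rw [hW0]
        simp [pt, pw, chi]
      · intro e _ he
        have : pt 0 e ≠ b := fun h => he (hptinj 0 (h.trans (by simp [pt, pw])))
        rw [hW0, if_neg this, Int.cast_zero, zero_mul]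
      · simp
    | succ j ih =>
      simp only [hrec, Int.cast_sum, Finset.sum_mul]
      rw [Finset.sum_comm, pow_succ, ← ih, hSd, Finset.mul_sum]
      refine Finset.sum_congr rfl fun d _ => ?_
      rw [Finset.sum_mul]
      refine Fintype.sum_equiv (Equiv.subRight d) _ _ fun e => ?_
      simp only [Equiv.subRight_apply]
      rw [mul_assoc, ← chi_add hζ, sub_add_cancel]
  obtain ⟨l, hl⟩ := hpwsurj _ (C.pow_p_mem hg hgR)
  have hptp : ∀ i, pt p i = pt 0 (i + l) := fun i => by simp [pt, hpwadd, hl]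
  have hpt0 : ∀ e, pt 0 e ∈ C.s.cls b := fun e => C.mem_cls_b.mpr ⟨pw e, hpw e, by simp [pt]⟩
  have hconst : ∀ e, e ≠ 0 → W p (pt 0 e) = W p (pt 0 1) := by
    intro e he
    have hne : ∀ e : ZMod p, e ≠ 0 → pt 0 e ≠ b := fun e he h =>
      he (hptinj 0 (h.trans (by simp [pt, pw])))
    obtain ⟨k, hk, hkb, hke⟩ := hK _ (hpt0 1) _ (hpt0 e) (hne 1 one_ne_zero) (hne e he)
    rw [← hke, hWinv p k hk hkb]
  have hsum0 : ∑ e : ZMod p, chi ζ e = 0 := by
    have h1 : chi ζ (1 : ZMod p) * ∑ e : ZMod p, chi ζ e = ∑ e : ZMod p, chi ζ e := by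
      rw [Finset.mul_sum]
      exact Fintype.sum_equiv (Equiv.addLeft 1) _ _ fun e => (chi_add hζ 1 e).symm
    have h2 : chi ζ (1 : ZMod p) ≠ 1 := by
      rw [chi, ZMod.val_one, pow_one]
      exact hζ.ne_one hp.out.one_lt
    by_contra h3
    exact h2 ((mul_eq_right₀ h3).mp h1)
  have hkey : Sd ^ p * chi ζ l = ((W p (pt 0 0) - W p (pt 0 1) : ℤ) : ℂ) := by
    rw [← hu p, Finset.sum_mul]
    calc ∑ i, (W p (pt p i) : ℂ) * chi ζ i * chi ζ l
        = ∑ e, (W p (pt 0 e) : ℂ) * chi ζ e := by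
          refine Fintype.sum_equiv (Equiv.addRight l) _ _ fun i => ?_
          simp [hptp, mul_assoc, chi_add hζ]
      _ = ∑ e : ZMod p, ((W p (pt 0 1) : ℂ) * chi ζ e +
            if e = 0 then ((W p (pt 0 0) - W p (pt 0 1) : ℤ) : ℂ) else 0) := by
          refine Finset.sum_congr rfl fun e _ => ?_
          by_cases he : e = 0
          · subst he
            rw [if_pos rfl, chi_zero]
            push_cast; ring
          · rw [if_neg he, add_zero, hconst e he]
      _ = _ := by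
          rw [Finset.sum_add_distrib, ← Finset.mul_sum, hsum0]
          simp
  -- the orbit is neither small nor almost the whole block
  have hcard := card_trivial hζ hp2 D l _ hkey
  have hDim : ∀ d, d ∈ D ↔ ∃ k ∈ C.K, k • b = b ∧ k • c = pw d • c := fun d => by simp [D]
  have hcl : ∀ y ∈ C.s.cls c, ∃ d, y = pw d • c := by
    intro y hy
    obtain ⟨w, hw, rfl⟩ := C.exists_R_move hy
    obtain ⟨d, rfl⟩ := hpwsurj w hw
    exact ⟨d, rfl⟩
  have hpwc : ∀ d d', pw d • c = pw d' • c → d = d' := fun d d' h => by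
    refine hptinj 1 ?_
    simp only [pt, pow_one, mul_smul, hgc]
    exact h
  rcases hcard with h1 | h1
  · obtain ⟨k, hk, hkb, hkc⟩ := hfree c hca hcb
    obtain ⟨d, hd⟩ := hcl (k • c) (hk.2 c hca)
    have hd0 : (0 : ZMod p) ∈ D := (hDim 0).mpr ⟨1, C.K.one_mem, one_smul _ _, by simp [pw]⟩
    have := Finset.card_le_one.mp h1 d ((hDim d).mpr ⟨k, hk, hkb, hd⟩) 0 hd0
    exact hkc (by rw [hd, this]; simp [pw])
  · obtain ⟨haS, hbS, -, hScard⟩ := C.S_props
    have hsub : (fun d => pw d • c) '' (D : Set (ZMod p)) ⊆ C.S \ {a, b} := by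
      rintro _ ⟨d, hd, rfl⟩
      obtain ⟨k, hk, hkb, hkc⟩ := (hDim d).mp hd
      have hr : C.s.r c (k • c) := hk.2 c hca
      refine ⟨?_, ?_⟩
      · change pw d • c ∈ C.S
        rw [← hkc, ← C.smul_S (show k ∈ stab2 G a b from ⟨hk.1, hkb⟩)]
        exact Set.smul_mem_smul_set hcS
      · change pw d • c ∉ _
        rw [← hkc]
        rintro (h | h)
        · exact (C.s.ne _ _ hr).2 h
        · rw [Set.mem_singleton_iff] at h
          rw [h] at hr
          exact hcb (C.s.symm _ _ hr)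
    have hle := Set.ncard_le_ncard hsub (Set.toFinite _)
    rw [Set.ncard_image_of_injective _ (fun d d' h => hpwc d d' h), Set.ncard_coe_finset,
      Set.ncard_sdiff (by simp [Set.insert_subset_iff, haS, hbS]) (Set.toFinite _), hScard,
      Set.ncard_pair C.hb.symm] at hle
    have hDc : (Dᶜ).card = 1 := by have := hp.out.two_le; rw [Finset.card_compl, ← Nat.card_eq_fintype_card, Nat.card_zmod]; omega
    obtain ⟨d₀, hd₀⟩ := Finset.card_eq_one.mp hDc
    have hnD : d₀ ∉ D := Finset.mem_compl.mp (by rw [hd₀]; exact Finset.mem_singleton_self _)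
    have hz : C.s.r c (pw d₀ • c) := (C.R_le_K (hpw d₀)).2 c hca
    obtain ⟨k, hk, hkb, hkz⟩ := hfree (pw d₀ • c) (C.s.ne _ _ hz).2
      fun h => hcb (C.s.trans _ _ _ h (C.s.symm _ _ hz))
    obtain ⟨d, hd⟩ := hcl (k • pw d₀ • c) (C.s.trans _ _ _ hz (hk.2 _ (C.s.ne _ _ hz).2))
    have hdD : d ∈ D := by
      by_contra h
      have := Finset.mem_compl.mpr h
      rw [hd₀, Finset.mem_singleton] at this
      exact hkz (by rw [hd, this])
    obtain ⟨k', hk', hk'b, hk'c⟩ := (hDim d).mp hdD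
    refine hnD ((hDim d₀).mpr ⟨k⁻¹ * k', C.K.mul_mem (C.K.inv_mem hk) hk', ?_, ?_⟩)
    · rw [mul_smul, hk'b, inv_smul_eq_iff, hkb]
    · rw [mul_smul, hk'c, ← hd, inv_smul_smul]

theorem case_one (hp2 : p ≠ 2) (hK : C.KTrans) : False := by
  by_cases h : ∃ c, c ≠ a ∧ c ∉ C.s.cls b ∧ ∀ k ∈ C.K, k • b = b → k • c = c
  · obtain ⟨c, hca, hcb, hfix⟩ := h
    exact C.case_one_fix hp2 hK hca hcb hfix
  · push Not at h
    exact C.case_one_free hp2 hK h

end Ctx

end Cfsg.Agent.SquarePlusOne
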