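import Cfsg.Agent.Lib.Recog.SquarePlusOne.CaseOne
import Cfsg.Agent.Lib.Recog.SquarePlusOne.Dichotomy

/-!
# The Sylow subgroup of the point stabilizer is normal, and the two point stabilizer is semiregular
-/

set_option autoImplicit false
set_option linter.unusedSectionVars false
set_option linter.style.haveILetI false

namespace Cfsg.Agent.SquarePlusOne

open MulAction
open scoped Pointwise

universe u v

variable {G : Type u} [Group G] [Finite G] {Ω : Type v} [Fintype Ω] [MulAction G Ω]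
  [FaithfulSMul G Ω]
variable {p : ℕ} [hp : Fact p.Prime] {a b : Ω} (C : Ctx G Ω p a b)

theorem factorization_p_mul {m : ℕ} (e : ℕ) (hm : ¬ p ∣ m) (hm0 : m ≠ 0) :
    (p ^ e * m).factorization p = e := by
  rw [Nat.factorization_mul (pow_ne_zero _ hp.out.ne_zero) hm0, Finsupp.add_apply,
    hp.out.factorization_pow, Finsupp.single_eq_same, Nat.factorization_eq_zero_of_not_dvd hm,
    add_zero]

theorem sylow_eq_of_normal {H : Type u} [Group H] [Finite H] (P Q : Sylow p H)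
    (hP : (P : Subgroup H).Normal) : Q = P := by
  haveI := Sylow.unique_of_normal P hP
  exact Subsingleton.elim _ _

namespace Ctx

/-- The subgroup of order `p` is normal in the point stabilizer. -/
def RNormal : Prop := ∀ g : G, g • a = a → ∀ q ∈ C.R, g * q * g⁻¹ ∈ C.R

theorem rNormal_or (hK : ¬ C.KTrans) : C.RNormal := by
  classical
  letI : MulAction C.K ↥(C.s.cls b) :=
    { smul := fun k x => ⟨(k : G) • (x : Ω),
        C.s.trans _ _ _ x.2 (k.2.2 _ (C.s.ne _ _ x.2).2)⟩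
      one_smul := fun x => Subtype.ext (one_smul G (x : Ω))
      mul_smul := fun k l x => Subtype.ext (mul_smul (k : G) (l : G) (x : Ω)) }
  haveI : FaithfulSMul C.K ↥(C.s.cls b) := ⟨fun {k l} h => by
    have h1 : l⁻¹ * k = 1 := by
      apply Subtype.ext
      refine C.K_faithful (l⁻¹ * k).2 fun y hy => ?_
      have := congrArg Subtype.val (h ⟨y, hy⟩)
      change (k : G) • y = (l : G) • y at this
      rw [Subgroup.coe_mul, Subgroup.coe_inv, mul_smul, this, inv_smul_smul]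
    exact (inv_mul_eq_one.mp h1).symm⟩
  haveI : IsPretransitive C.K ↥(C.s.cls b) := ⟨fun x y => by
    obtain ⟨g, hg, hgx⟩ := C.exists_R_move (C.s.trans _ _ _ (C.s.symm _ _ x.2) y.2)
    exact ⟨⟨g, C.R_le_K hg⟩, Subtype.ext hgx⟩⟩
  have hcard : Fintype.card ↥(C.s.cls b) = p := by
    rw [← Nat.card_eq_fintype_card, Nat.card_coe_set_eq, Sys.cls, C.s.card b C.hb]
  rcases normal_or_two_trans (H := C.K) hcard with h | h
  · intro g hg q hq
    have hcR : Nat.card (C.R.subgroupOf C.K) = p ^ (Nat.card C.K).factorization p := by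
      rw [Nat.card_congr (Subgroup.subgroupOfEquivOfLe C.R_le_K).toEquiv, C.card_R, C.card_K]
      have := factorization_p_mul (p := p) 1 (C.not_dvd (H := C.K ⊓ stab2 G a b) C.hb fun _ hx => hx.2)
        Nat.card_pos.ne'
      rw [pow_one] at this
      rw [this, pow_one]
    let RS : Sylow p C.K := Sylow.ofCard _ hcR
    let x : C.K := ⟨g * q * g⁻¹, C.K_conj hg (C.R_le_K hq)⟩
    have hx : IsPGroup p (Subgroup.zpowers x) := by
      refine IsPGroup.of_card (n := (orderOf x).factorization p) ?_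
      rw [Nat.card_zpowers]
      have h1 : orderOf x ∣ p := by
        rw [← Subgroup.orderOf_coe, show (x : G) = g * q * g⁻¹ from rfl, ← MulAut.conj_apply,
          MulEquiv.orderOf_eq, ← C.card_R]
        exact Subgroup.orderOf_dvd_natCard _ hq
      rcases (Nat.dvd_prime hp.out).mp h1 with h2 | h2
      · simp [h2]
      · rw [h2, hp.out.factorization_self, pow_one]
    obtain ⟨Q, hQ⟩ := hx.exists_le_sylow
    rw [sylow_eq_of_normal RS Q (h RS)] at hQ
    exact hQ (Subgroup.mem_zpowers x)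
  · refine absurd ?_ hK
    intro x hx y hy hxb hyb
    obtain ⟨k, hk1, hk2⟩ := h ⟨b, C.s.self_mem_cls C.hb⟩ ⟨x, hx⟩ ⟨b, C.s.self_mem_cls C.hb⟩ ⟨y, hy⟩
      (fun e => hxb (congrArg Subtype.val e).symm) (fun e => hyb (congrArg Subtype.val e).symm)
    exact ⟨k, k.2, congrArg Subtype.val hk1, congrArg Subtype.val hk2⟩

/-- The centralizer of the normal subgroup of order `p` in the point stabilizer. -/
def CR : Subgroup G := stabilizer G a ⊓ Subgroup.centralizer (C.R : Set G)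

theorem mem_CR {g : G} : g ∈ C.CR ↔ g • a = a ∧ ∀ q ∈ C.R, q * g = g * q :=
  and_congr_right fun _ => Subgroup.mem_centralizer_iff

theorem P_le_CR : C.P ≤ C.CR := fun g hg =>
  C.mem_CR.mpr ⟨C.le hg, fun q hq => C.comm q hq.1 g hg⟩

theorem CR_inf_K {g : G} (hg : g ∈ C.CR) (hk : g ∈ C.K) : g ∈ C.R := by
  obtain ⟨q, hq, hqb⟩ := C.mem_cls_b.mp (show g • b ∈ C.s.cls b from hk.2 b C.hb)
  have h1 : q⁻¹ * g = 1 := by
    refine C.K_faithful (C.K.mul_mem (C.K.inv_mem (C.R_le_K hq)) hk) fun y hy => ?_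
    obtain ⟨w, hw, rfl⟩ := C.mem_cls_b.mp hy
    have hc : q⁻¹ * g * w = w * (q⁻¹ * g) := by
      rw [mul_assoc, ← (C.mem_CR.mp hg).2 w hw, ← mul_assoc, C.comm _ (C.P.inv_mem hq.1) _ hw.1,
        mul_assoc]
    rw [← mul_smul, hc, mul_smul, mul_smul, ← hqb, inv_smul_smul]
  exact inv_mul_eq_one.mp h1 ▸ hq

theorem exists_notMem_R : ∃ g ∈ C.P, g ∉ C.R := by
  by_contra! h
  have h1 := Subgroup.card_dvd_of_le (show C.P ≤ C.R from h)
  rw [C.card, C.card_R] at h1
  have := Nat.le_of_dvd hp.out.pos h1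
  have := hp.out.two_le
  nlinarith

theorem card_CR : Nat.card C.CR = p ^ 2 * Nat.card (C.CR ⊓ stab2 G a b : Subgroup G) := by
  have horb : orbit C.CR b = ({a}ᶜ : Set Ω) := by
    ext x
    constructor
    · rintro ⟨⟨g, hg⟩, rfl⟩
      exact Sys.smul_ne hg.1 C.hb
    · intro hx
      obtain ⟨g, hg, rfl⟩ := C.trans x hx
      exact ⟨⟨g, C.P_le_CR hg⟩, rfl⟩
  have h := Subgroup.index_mul_card (stabilizer C.CR b)
  rw [index_stabilizer, horb, ncard_compl C.h2 C.hΩ] at h
  rw [← h]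
  congr 1
  exact Nat.card_congr
    { toFun := fun g => ⟨g.1.1, g.1.2, g.1.2.1, g.2⟩
      invFun := fun g => ⟨⟨g.1, g.2.1⟩, g.2.2.2⟩ }

theorem CR_stab_commute (hR : C.RNormal) {h₁ h₂ : G} (h₁H : h₁ ∈ stab2 G a b)
    (h₂H : h₂ ∈ stab2 G a b) {q : G} (hq : q ∈ C.R) :
    (h₁ * h₂) * q * (h₁ * h₂)⁻¹ = (h₂ * h₁) * q * (h₂ * h₁)⁻¹ := by
  obtain ⟨ρ, hρ, hgen⟩ := C.exists_rho
  have key : ∀ h : G, h • a = a → ∃ m : ℤ, ∀ n : ℤ, h * ρ ^ n * h⁻¹ = ρ ^ (m * n) := by
    intro h ha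
    have h1 : h * ρ * h⁻¹ ∈ C.R := hR h ha ρ (hgen ▸ Subgroup.mem_zpowers ρ)
    rw [hgen, Subgroup.mem_zpowers_iff] at h1
    obtain ⟨m, hm⟩ := h1
    exact ⟨m, fun n => by rw [← conj_zpow, ← hm, ← zpow_mul]⟩
  obtain ⟨m, hm⟩ := key h₁ h₁H.1
  obtain ⟨n, hn⟩ := key h₂ h₂H.1
  rw [hgen, Subgroup.mem_zpowers_iff] at hq
  obtain ⟨j, rfl⟩ := hq
  calc (h₁ * h₂) * ρ ^ j * (h₁ * h₂)⁻¹ = h₁ * (h₂ * ρ ^ j * h₂⁻¹) * h₁⁻¹ := by group
    _ = ρ ^ (m * (n * j)) := by rw [hn, hm]
    _ = ρ ^ (n * (m * j)) := by rw [mul_left_comm]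
    _ = h₂ * (h₁ * ρ ^ j * h₁⁻¹) * h₂⁻¹ := by rw [hm, hn]
    _ = _ := by group

theorem P_normal (hR : C.RNormal) : ∀ g : G, g • a = a → ∀ q ∈ C.P, g * q * g⁻¹ ∈ C.P := by
  classical
  -- it suffices that `P` is normal in the centralizer
  suffices hN : ∀ P' : Sylow p C.CR, (P' : Subgroup C.CR).Normal by
    intro g hg q hq
    have hcP : Nat.card (C.P.subgroupOf C.CR) = p ^ (Nat.card C.CR).factorization p := by
      rw [Nat.card_congr (Subgroup.subgroupOfEquivOfLe C.P_le_CR).toEquiv, C.card, C.card_CR,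
        factorization_p_mul 2 (C.not_dvd (H := C.CR ⊓ stab2 G a b) C.hb fun _ hx => hx.2) Nat.card_pos.ne']
    let PS : Sylow p C.CR := Sylow.ofCard _ hcP
    have hmem : g * q * g⁻¹ ∈ C.CR := by
      rw [mem_CR]
      refine ⟨by rw [mul_smul, mul_smul, Sys.inv_fix hg, show q • a = a from C.le hq, hg], ?_⟩
      intro w hw
      have hw' := hR g⁻¹ (Sys.inv_fix hg) w hw
      have := (C.mem_CR.mp (C.P_le_CR hq)).2 _ hw'
      calc w * (g * q * g⁻¹) = g * ((g⁻¹ * w * g⁻¹⁻¹) * q) * g⁻¹ := by group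
        _ = g * (q * (g⁻¹ * w * g⁻¹⁻¹)) * g⁻¹ := by rw [this]
        _ = g * q * g⁻¹ * w := by group
    let x : C.CR := ⟨g * q * g⁻¹, hmem⟩
    have hx : IsPGroup p (Subgroup.zpowers x) := by
      have hd : orderOf x ∣ p ^ 2 := by
        rw [← Subgroup.orderOf_coe, show (x : G) = g * q * g⁻¹ from rfl, ← MulAut.conj_apply,
          MulEquiv.orderOf_eq, ← C.card]
        exact Subgroup.orderOf_dvd_natCard _ hq
      obtain ⟨m, -, hm⟩ := (Nat.dvd_prime_pow hp.out).mp hd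
      exact IsPGroup.of_card (n := m) (by rw [Nat.card_zpowers, hm])
    obtain ⟨Q, hQ⟩ := hx.exists_le_sylow
    rw [sylow_eq_of_normal PS Q (hN PS)] at hQ
    exact hQ (Subgroup.mem_zpowers x)
  -- the action on the blocks
  let Y : Type v := {s : Set Ω // ∃ x, x ≠ a ∧ s = C.s.cls x}
  letI : MulAction C.CR Y :=
    { smul := fun g s => ⟨(g : G) • (s : Set Ω), by
        obtain ⟨x, hx, he⟩ := s.2
        exact ⟨(g : G) • x, Sys.smul_ne g.2.1 hx, by rw [he, C.s.smul_cls g.2.1]⟩⟩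
      one_smul := fun s => Subtype.ext (one_smul G (s : Set Ω))
      mul_smul := fun g h s => Subtype.ext (mul_smul (g : G) (h : G) (s : Set Ω)) }
  haveI : IsPretransitive C.CR Y := ⟨fun s s' => by
    obtain ⟨x, hx, he⟩ := s.2
    obtain ⟨y, hy, he'⟩ := s'.2
    obtain ⟨g, hg, rfl⟩ := C.trans x hx
    obtain ⟨h, hh, rfl⟩ := C.trans y hy
    refine ⟨⟨h * g⁻¹, C.P_le_CR (C.P.mul_mem hh (C.P.inv_mem hg))⟩, Subtype.ext ?_⟩
    show (h * g⁻¹) • (s : Set Ω) = (s' : Set Ω)
    rw [he, he', C.s.smul_cls (C.le (C.P.mul_mem hh (C.P.inv_mem hg))), mul_smul, inv_smul_smul]⟩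
  obtain ⟨g₀, hg₀, hg₀R⟩ := C.exists_notMem_R
  have hY : Fintype.card Y = p := by
    rw [← Nat.card_eq_fintype_card]
    refine Eq.trans (Nat.card_congr (Equiv.ofBijective (α := Fin p)
      (fun n => (⟨C.s.cls (g₀ ^ (n : ℕ) • b), _, C.smul_b_ne (C.P.pow_mem hg₀ _), rfl⟩ : Y))
      ⟨?_, ?_⟩).symm) (Nat.card_fin p)
    · intro m n he
      have hs := congrArg Subtype.val he
      have hr : C.s.r (g₀ ^ (m : ℕ) • b) (g₀ ^ (n : ℕ) • b) := by
        show g₀ ^ (n : ℕ) • b ∈ C.s.cls _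
        rw [show C.s.cls (g₀ ^ (m : ℕ) • b) = C.s.cls (g₀ ^ (n : ℕ) • b) from hs]
        exact C.s.self_mem_cls (C.smul_b_ne (C.P.pow_mem hg₀ _))
      rw [C.r_iff (C.P.pow_mem hg₀ _) (C.P.pow_mem hg₀ _)] at hr
      by_contra hne
      rcases lt_or_gt_of_ne (Fin.val_ne_of_ne hne) with h | h
      · apply C.pow_notMem hg₀ hg₀R (n := (n : ℕ) - m) (by omega) (by omega)
        rwa [show (n : ℕ) = m + ((n : ℕ) - m) by omega, pow_add, inv_mul_cancel_left] at hr
      · apply C.pow_notMem hg₀ hg₀R (n := (m : ℕ) - n) (by omega) (by omega)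
        rw [show (m : ℕ) = n + ((m : ℕ) - n) by omega, pow_add, mul_inv_rev, inv_mul_cancel_right] at hr
        simpa using hr
    · rintro ⟨_, x, hx, rfl⟩
      obtain ⟨q, hq, rfl⟩ := C.trans x hx
      obtain ⟨n, hn, w, hw, rfl⟩ := C.decomp hg₀ hg₀R hq
      refine ⟨⟨n, hn⟩, Subtype.ext (C.s.cls_eq ?_)⟩
      rw [C.r_iff (C.P.pow_mem hg₀ n) hq, inv_mul_cancel_left]
      exact hw
  let f : C.CR →* Equiv.Perm Y := toPermHom C.CR Y
  haveI : IsPretransitive f.range Y := ⟨fun x y => by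
    obtain ⟨g, hg⟩ := exists_smul_eq C.CR x y
    exact ⟨⟨f g, ⟨g, rfl⟩⟩, hg⟩⟩
  have hker : ∀ k : C.CR, f k = 1 → (k : G) ∈ C.R := by
    intro k hk
    refine C.CR_inf_K k.2 ⟨k.2.1, fun x hx => ?_⟩
    have h1 := congrArg Subtype.val (Equiv.Perm.ext_iff.mp hk ⟨C.s.cls x, x, hx, rfl⟩)
    change (k : G) • C.s.cls x = C.s.cls x at h1
    show (k : G) • x ∈ C.s.cls x
    rw [← h1]
    exact Set.smul_mem_smul_set (C.s.self_mem_cls hx)
  rcases normal_or_two_trans (H := f.range) hY with h | h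
  · intro P'
    have hn := h (P'.mapSurjective f.rangeRestrict_surjective)
    rw [Sylow.coe_mapSurjective] at hn
    have h2 := hn.comap f.rangeRestrict
    rw [Subgroup.comap_map_eq] at h2
    have hle : f.rangeRestrict.ker ≤ (P' : Subgroup C.CR) := by
      haveI : f.rangeRestrict.ker.Normal := MonoidHom.normal_ker _
      have hpk : IsPGroup p f.rangeRestrict.ker := by
        intro k
        refine ⟨1, Subtype.ext (Subtype.ext ?_)⟩
        have hk : ((k : C.CR) : G) ∈ C.R := hker k (congrArg Subtype.val k.2)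
        have hd := Subgroup.orderOf_dvd_natCard _ hk
        rw [C.card_R] at hd
        rw [pow_one]
        push_cast
        exact orderOf_dvd_iff_pow_eq_one.mp hd
      obtain ⟨Q, hQ⟩ := hpk.exists_le_sylow
      obtain ⟨g, hg⟩ := MulAction.exists_smul_eq C.CR Q P'
      intro k hk
      rw [← hg]
      show k ∈ (g • Q : Sylow p C.CR).toSubgroup
      rw [Sylow.coe_subgroup_smul, Subgroup.mem_pointwise_smul_iff_inv_smul_mem]
      refine hQ ?_
      simpa using (MonoidHom.normal_ker f.rangeRestrict).conj_mem k hk g⁻¹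
    rwa [sup_eq_left.mpr hle] at h2
  · -- the stabilizer of `b` in the centralizer is regular on the other blocks
    obtain ⟨c, hcS, hca, hcb⟩ := C.exists_outside
    let Hb : Subgroup G := C.CR ⊓ stab2 G a b
    obtain ⟨haS, hbS, -, hScard⟩ := C.S_props
    have hmove : ∀ x, x ≠ a → x ∉ C.s.cls b → ∃ k ∈ Hb, C.s.r x (k • c) := by
      intro x hx hxb
      let B₀ : Y := ⟨C.s.cls b, b, C.hb, rfl⟩
      have hne : ∀ z (hz : z ≠ a), z ∉ C.s.cls b → B₀ ≠ (⟨C.s.cls z, z, hz, rfl⟩ : Y) := by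
        intro z hz hzb e
        refine hzb ?_
        rw [show C.s.cls b = C.s.cls z from congrArg Subtype.val e]
        exact C.s.self_mem_cls hz
      obtain ⟨⟨_, k, rfl⟩, h1, h2⟩ := h B₀ _ B₀ _ (hne c hca hcb) (hne x hx hxb)
      have h1' : (k : G) • C.s.cls b = C.s.cls b := congrArg Subtype.val h1
      have h2' : (k : G) • C.s.cls c = C.s.cls x := congrArg Subtype.val h2
      have hkb : (k : G) • b ∈ C.s.cls b := h1' ▸ Set.smul_mem_smul_set (C.s.self_mem_cls C.hb)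
      obtain ⟨q, hq, hqb⟩ := C.mem_cls_b.mp hkb
      have hmem : q⁻¹ * (k : G) ∈ C.CR := C.CR.mul_mem (C.CR.inv_mem (C.P_le_CR hq.1)) k.2
      refine ⟨q⁻¹ * (k : G), ⟨hmem, hmem.1, ?_⟩, ?_⟩
      · show (q⁻¹ * (k : G)) • b = b
        rw [mul_smul, ← hqb, inv_smul_smul]
      · have hkc : (k : G) • c ∈ C.s.cls x := h2' ▸ Set.smul_mem_smul_set (C.s.self_mem_cls hca)
        rw [mul_smul]
        exact C.s.trans _ _ _ hkc ((C.R_le_K (C.R.inv_mem hq)).2 _ (C.s.ne _ _ hkc).2)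
    have hO : orbit Hb c ⊆ C.S \ {a, b} := by
      rintro _ ⟨⟨k, hk⟩, rfl⟩
      change k • c ∈ _
      refine ⟨C.smul_S hk.2 ▸ Set.smul_mem_smul_set hcS, ?_⟩
      rintro (e | e)
      · exact Sys.smul_ne hk.2.1 hca e
      · rw [Set.mem_singleton_iff, ← (show k • b = b from hk.2.2), smul_left_cancel_iff] at e
        exact hcb (by rw [e]; exact C.s.self_mem_cls C.hb)
    have hcomm : ∀ k ∈ Hb, ∀ l ∈ Hb, ∀ y ∈ C.S \ ({a, b} : Set Ω), k • l • y = l • k • y := by
      intro k hk l hl y hy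
      obtain ⟨z, hz, rfl⟩ := hy.1
      rcases hz with rfl | hz
      · exact absurd (Or.inr C.hta) hy.2
      obtain ⟨q, hq, rfl⟩ := C.mem_cls_b.mp hz
      have hk' := swap_normalizes (inv_smul_eq_iff.mpr C.htb.symm)
        (inv_smul_eq_iff.mpr C.hta.symm) hk.2
      have hl' := swap_normalizes (inv_smul_eq_iff.mpr C.htb.symm)
        (inv_smul_eq_iff.mpr C.hta.symm) hl.2
      rw [inv_inv] at hk' hl'
      have hq' := C.CR_stab_commute hR hk' hl' hq
      set u := C.t⁻¹ * k * C.t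
      set w := C.t⁻¹ * l * C.t
      have huw : u • w • q • b = ((u * w) * q * (u * w)⁻¹) • b := by
        have : (u * w)⁻¹ • b = b := by
          rw [inv_smul_eq_iff, mul_smul, show w • b = b from hl'.2, show u • b = b from hk'.2]
        rw [mul_smul _ (u * w)⁻¹, this, mul_smul (u * w) q, mul_smul u w]
      have hwu : w • u • q • b = ((w * u) * q * (w * u)⁻¹) • b := by
        have : (w * u)⁻¹ • b = b := by
          rw [inv_smul_eq_iff, mul_smul, show u • b = b from hk'.2, show w • b = b from hl'.2]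
        rw [mul_smul _ (w * u)⁻¹, this, mul_smul (w * u) q, mul_smul w u]
      have := huw.trans (hq' ▸ hwu.symm)
      change k • l • C.t • q • b = l • k • C.t • q • b
      simpa [u, w, mul_smul] using this
    have hfix : stabilizer Hb c = ⊥ := by
      rw [Subgroup.eq_bot_iff_forall]
      rintro ⟨k, hk⟩ hkc
      have hkc' : k • c = c := hkc
      refine Subtype.ext ?_
      show k = 1
      have hkK : k ∈ C.K := by
        refine ⟨hk.2.1, fun x hx => ?_⟩
        by_cases hxb : x ∈ C.s.cls b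
        · have h1 : k • x ∈ k • C.s.cls b := Set.smul_mem_smul_set hxb
          rw [C.s.smul_cls hk.2.1, show k • b = b from hk.2.2] at h1
          exact C.s.trans _ _ _ (C.s.symm _ _ hxb) h1
        · obtain ⟨l, hl, hlx⟩ := hmove x hx hxb
          have h1 : k • l • c = l • c := by
            rw [hcomm k hk l hl c (hO (mem_orbit_self c)), hkc']
          have h2 := C.s.inv k hk.2.1 _ _ hlx
          rw [h1] at h2
          exact C.s.trans _ _ _ hlx (C.s.symm _ _ h2)
      exact C.free k (C.CR_inf_K hk.1 hkK).1 b C.hb hk.2.2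
    -- hence its order is `p - 1`
    have hcardHb : Nat.card Hb = p - 1 := by
      have h0 := Subgroup.index_mul_card (stabilizer Hb c)
      rw [index_stabilizer, hfix, Subgroup.card_bot, mul_one] at h0
      rw [← h0]
      apply le_antisymm
      · have := Set.ncard_le_ncard hO (Set.toFinite _)
        rw [Set.ncard_sdiff (by simp [Set.insert_subset_iff, haS, hbS]) (Set.toFinite _), hScard,
          Set.ncard_pair C.hb.symm] at this
        omega
      · -- the orbit meets all other blocks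
        let F : ↥(orbit Hb c) → Y := fun y => ⟨C.s.cls y, y, by
          have := (hO y.2).2; exact fun e => this (Or.inl e), rfl⟩
        have hsub : ∀ D : Y, D.1 ≠ C.s.cls b → ∃ y, F y = D := by
          rintro ⟨_, x, hx, rfl⟩ hD
          obtain ⟨k, hk, hkx⟩ := hmove x hx fun e => hD (C.s.cls_eq e).symm
          exact ⟨⟨k • c, ⟨⟨k, hk⟩, rfl⟩⟩, Subtype.ext (C.s.cls_eq hkx).symm⟩
        haveI : Fintype ↥(orbit Hb c) := Fintype.ofFinite _
        have h3 : (Finset.univ : Finset Y) ⊆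
            insert ⟨C.s.cls b, b, C.hb, rfl⟩ ((Finset.univ : Finset ↥(orbit Hb c)).image F) := by
          intro D _
          by_cases hD : D.1 = C.s.cls b
          · exact Finset.mem_insert.mpr (Or.inl (Subtype.ext hD))
          · obtain ⟨y, rfl⟩ := hsub D hD
            exact Finset.mem_insert_of_mem (Finset.mem_image.mpr ⟨y, Finset.mem_univ _, rfl⟩)
        have h4 := (Finset.card_le_card h3).trans (Finset.card_insert_le _ _)
        rw [Finset.card_univ, hY] at h4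
        have h5 := Finset.card_image_le (s := (Finset.univ : Finset ↥(orbit Hb c))) (f := F)
        rw [Finset.card_univ, ← Nat.card_eq_fintype_card, Nat.card_coe_set_eq] at h5
        omega
    intro P'
    have hcard : Nat.card C.CR = p ^ 2 * (p - 1) := by rw [C.card_CR, hcardHb]
    have hndvd : ¬ p ∣ p - 1 := fun hd => by
      have := Nat.le_of_dvd (by have := hp.out.two_le; omega) hd
      have := hp.out.pos
      omega
    have hidx : (P' : Subgroup C.CR).index = p - 1 := by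
      have h1 := Subgroup.index_mul_card (P' : Subgroup C.CR)
      rw [Sylow.card_eq_multiplicity, hcard,
        factorization_p_mul 2 hndvd (by have := hp.out.two_le; omega), mul_comm (p ^ 2)] at h1
      exact Nat.eq_of_mul_eq_mul_right (pow_pos hp.out.pos 2) h1
    have hn1 : Nat.card (Sylow p C.CR) = 1 := by
      have h1 := Sylow.card_dvd_index P'
      rw [hidx] at h1
      have h2 := Nat.le_of_dvd (by have := hp.out.two_le; omega) h1
      have h3 : Nat.card (Sylow p C.CR) % p = 1 % p := card_sylow_modEq_one p C.CR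
      rw [Nat.mod_eq_of_lt (by have := hp.out.two_le; omega), Nat.mod_eq_of_lt hp.out.one_lt] at h3
      exact h3
    haveI : Subsingleton (Sylow p C.CR) := (Nat.card_eq_one_iff_unique.mp hn1).1
    exact Sylow.normal_of_subsingleton P'

/-- With a normal regular subgroup, the two point stabilizer acts semiregularly and is small. -/
theorem semiregular (hR : C.RNormal) (hP : ∀ g : G, g • a = a → ∀ q ∈ C.P, g * q * g⁻¹ ∈ C.P) :
    (∀ h ∈ stab2 G a b, ∀ x, x ≠ a → x ≠ b → h • x = x → h = 1) ∧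
      Nat.card (stab2 G a b) ≤ p - 1 := by
  classical
  obtain ⟨g, hg, hgR⟩ := C.exists_notMem_R
  have hmod : ∀ h ∈ stab2 G a b, ∃ n : ℕ, ∀ j : ℕ, ∃ w ∈ C.R, h * g ^ j * h⁻¹ = g ^ (n * j) * w := by
    intro h hh
    obtain ⟨n, -, w, hw, he⟩ := C.decomp hg hgR (hP h hh.1 g hg)
    refine ⟨n, fun j => ⟨w ^ j, C.R.pow_mem hw j, ?_⟩⟩
    rw [← conj_pow, he, (show Commute (g ^ n) w from C.comm _ (C.P.pow_mem hg n) _ hw.1).mul_pow,
      ← pow_mul]
  have hcentral : ∀ {c : G}, c ∈ stab2 G a b → (∀ q ∈ C.P, c * q * c⁻¹ = q) → c = 1 := by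
    intro c hc h
    refine eq_of_smul_eq_smul (α := Ω) fun x => ?_
    rw [one_smul]
    by_cases hxa : x = a
    · rw [hxa]; exact hc.1
    · obtain ⟨q, hq, rfl⟩ := C.trans x hxa
      rw [← mul_smul, show c * q = (c * q * c⁻¹) * c by group, h q hq, mul_smul,
        show c • b = b from hc.2]
  have habel : ∀ h₁ ∈ stab2 G a b, ∀ h₂ ∈ stab2 G a b, h₁ * h₂ = h₂ * h₁ := by
    intro h₁ hh₁ h₂ hh₂
    set u := h₂ * h₁
    set c := u⁻¹ * (h₁ * h₂) with hc
    have hu : u ∈ stab2 G a b := (stab2 G a b).mul_mem hh₂ hh₁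
    have hcH : c ∈ stab2 G a b :=
      (stab2 G a b).mul_mem ((stab2 G a b).inv_mem hu) ((stab2 G a b).mul_mem hh₁ hh₂)
    have hcR : ∀ q ∈ C.R, c * q * c⁻¹ = q := by
      intro q hq
      have := C.CR_stab_commute hR hh₁ hh₂ hq
      calc c * q * c⁻¹ = u⁻¹ * ((h₁ * h₂) * q * (h₁ * h₂)⁻¹) * u := by rw [hc]; group
        _ = u⁻¹ * (u * q * u⁻¹) * u := by rw [this]
        _ = q := by group
    obtain ⟨w, hw, hcg⟩ : ∃ w ∈ C.R, c * g * c⁻¹ = g * w := by
      obtain ⟨n₁, hn₁⟩ := hmod h₁ hh₁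
      obtain ⟨n₂, hn₂⟩ := hmod h₂ hh₂
      obtain ⟨w₁, hw₁, e₁⟩ := hn₂ 1
      obtain ⟨w₂, hw₂, e₂⟩ := hn₁ n₂
      obtain ⟨w₃, hw₃, e₃⟩ := hn₁ 1
      obtain ⟨w₄, hw₄, e₄⟩ := hn₂ n₁
      rw [pow_one, mul_one] at e₁ e₃
      have ew : (h₁ * h₂) * g * (h₁ * h₂)⁻¹ = g ^ (n₁ * n₂) * (w₂ * (h₁ * w₁ * h₁⁻¹)) := by
        calc (h₁ * h₂) * g * (h₁ * h₂)⁻¹ = h₁ * (h₂ * g * h₂⁻¹) * h₁⁻¹ := by group
          _ = (h₁ * g ^ n₂ * h₁⁻¹) * (h₁ * w₁ * h₁⁻¹) := by rw [e₁]; group
          _ = _ := by rw [e₂]; group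
      have eu : u * g * u⁻¹ = g ^ (n₂ * n₁) * (w₄ * (h₂ * w₃ * h₂⁻¹)) := by
        calc u * g * u⁻¹ = h₂ * (h₁ * g * h₁⁻¹) * h₂⁻¹ := by simp only [u]; group
          _ = (h₂ * g ^ n₁ * h₂⁻¹) * (h₂ * w₃ * h₂⁻¹) := by rw [e₃]; group
          _ = _ := by rw [e₄]; group
      set A := w₂ * (h₁ * w₁ * h₁⁻¹)
      set B := w₄ * (h₂ * w₃ * h₂⁻¹)
      have hA : A ∈ C.R := C.R.mul_mem hw₂ (hR h₁ hh₁.1 w₁ hw₁)
      have hB : B ∈ C.R := C.R.mul_mem hw₄ (hR h₂ hh₂.1 w₃ hw₃)
      rw [mul_comm n₂ n₁] at eu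
      refine ⟨u⁻¹ * (B⁻¹ * A) * u⁻¹⁻¹, hR u⁻¹ (Sys.inv_fix hu.1) _ (C.R.mul_mem (C.R.inv_mem hB) hA), ?_⟩
      calc c * g * c⁻¹ = u⁻¹ * ((h₁ * h₂) * g * (h₁ * h₂)⁻¹) * u := by rw [hc]; group
        _ = u⁻¹ * ((u * g * u⁻¹) * (B⁻¹ * A)) * u := by rw [ew, eu]; group
        _ = _ := by group
    have hiter : ∀ j : ℕ, c ^ j * g * (c ^ j)⁻¹ = g * w ^ j := by
      intro j
      induction j with
      | zero => simp
      | succ j ih =>
        calc c ^ (j + 1) * g * (c ^ (j + 1))⁻¹ = c * (c ^ j * g * (c ^ j)⁻¹) * c⁻¹ := by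
              rw [pow_succ']; group
          _ = (c * g * c⁻¹) * (c * w ^ j * c⁻¹) := by rw [ih]; group
          _ = g * w ^ (j + 1) := by
              rw [hcg, hcR _ (C.R.pow_mem hw j), mul_assoc, ← pow_succ']
    have hw1 : w = 1 := by
      have h1 := hiter (orderOf c)
      rw [pow_orderOf_eq_one, one_mul, inv_one, mul_one] at h1
      have h2 : w ^ orderOf c = 1 := mul_eq_left.mp h1.symm
      have hcop : Nat.Coprime (orderOf c) p := by
        refine (hp.out.coprime_iff_not_dvd.mpr fun hd => ?_).symm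
        exact not_dvd_stab2 C.h2 C.hΩ C.hb C.s (hd.trans (Subgroup.orderOf_dvd_natCard _ hcH))
      have h3 : w ^ p = 1 := by
        refine orderOf_dvd_iff_pow_eq_one.mp ?_
        rw [← C.card_R]; exact Subgroup.orderOf_dvd_natCard _ hw
      have := pow_gcd_eq_one.mpr ⟨h2, h3⟩
      rwa [hcop.gcd_eq_one, pow_one] at this
    have hc1 : c = 1 := hcentral hcH fun q hq => by
      obtain ⟨n, -, w', hw', rfl⟩ := C.decomp hg hgR hq
      calc c * (g ^ n * w') * c⁻¹ = (c * g ^ n * c⁻¹) * (c * w' * c⁻¹) := by group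
        _ = g ^ n * w' := by rw [← conj_pow, hcg, hw1, mul_one, hcR w' hw']
    exact (inv_mul_eq_one.mp hc1).symm
  have hsemi : ∀ h ∈ stab2 G a b, ∀ x, x ≠ a → x ≠ b → h • x = x → h = 1 := by
    intro h hh x hxa hxb hfx
    by_contra h1
    let L : Subgroup G :=
      { carrier := {q | q ∈ C.P ∧ h * q = q * h}
        one_mem' := ⟨C.P.one_mem, by simp⟩
        mul_mem' := fun {q r} hq hr =>
          ⟨C.P.mul_mem hq.1 hr.1, by rw [← mul_assoc, hq.2, mul_assoc, hr.2, mul_assoc]⟩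
        inv_mem' := fun {q} hq => ⟨C.P.inv_mem hq.1,
          ((show Commute h q from hq.2).inv_right).eq⟩ }
    have hfix_iff : ∀ {h' : G}, h' ∈ stab2 G a b → ∀ q ∈ C.P,
        (h' • q • b = q • b ↔ h' * q = q * h') := by
      intro h' hh' q hq
      constructor
      · intro he
        have : (h' * q * h'⁻¹) • b = q • b := by
          rw [mul_smul, mul_smul, show h'⁻¹ • b = b from inv_smul_eq_iff.mpr hh'.2.symm, he]
        have h2 := C.P_inj (hP h' hh'.1 q hq) hq this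
        calc h' * q = h' * q * h'⁻¹ * h' := by group
          _ = q * h' := by rw [h2]
      · intro he
        rw [← mul_smul, he, mul_smul, show h' • b = b from hh'.2]
    have hLdvd : Nat.card L ∣ p ^ 2 :=
      C.card ▸ Subgroup.card_dvd_of_le (fun q hq => (hq.1 : q ∈ C.P))
    obtain ⟨m, hm, hLm⟩ := (Nat.dvd_prime_pow hp.out).mp hLdvd
    obtain ⟨q₀, hq₀, hq₀x⟩ := C.trans x hxa
    have hq₀L : q₀ ∈ L := ⟨hq₀, (hfix_iff hh q₀ hq₀).mp (hq₀x ▸ hfx)⟩
    have hq₀1 : q₀ ≠ 1 := fun e => hxb (by rw [← hq₀x, e, one_smul])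
    have hm1 : m = 1 := by
      have hm0 : m ≠ 0 := by
        rintro rfl
        rw [pow_zero, Subgroup.card_eq_one] at hLm
        exact hq₀1 (Subgroup.mem_bot.mp (hLm ▸ hq₀L))
      have hm2 : m ≠ 2 := by
        rintro rfl
        have heq := Subgroup.eq_of_le_of_card_ge (fun q (hq : q ∈ L) => (hq.1 : q ∈ C.P))
          (by rw [C.card, hLm])
        refine h1 (hcentral hh fun q hq => ?_)
        have : q ∈ L := heq ▸ hq
        rw [this.2, mul_inv_cancel_right]
      omega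
    have hcardL : Nat.card L = p := by rw [hLm, hm1, pow_one]
    have hLconj : ∀ k : G, k • a = a → ∀ q ∈ L, k * q * k⁻¹ ∈ L := by
      intro k hk q hq
      obtain ⟨r, hr, hrb⟩ := C.trans (k • b) (Sys.smul_ne hk C.hb)
      have hk' : r⁻¹ * k ∈ stab2 G a b := mem_stab2.mpr
        ⟨by rw [mul_smul, hk]; exact Sys.inv_fix (C.le hr),
          by rw [mul_smul, ← hrb, inv_smul_smul]⟩
      set k' := r⁻¹ * k
      have hq'P : k' * q * k'⁻¹ ∈ C.P := hP k' hk'.1 q hq.1
      have he : k * q * k⁻¹ = k' * q * k'⁻¹ := by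
        calc k * q * k⁻¹ = r * (k' * q * k'⁻¹) * r⁻¹ := by simp only [k']; group
          _ = _ := by rw [C.comm r hr _ hq'P, mul_inv_cancel_right]
      rw [he]
      refine ⟨hq'P, ?_⟩
      calc h * (k' * q * k'⁻¹) = (h * k') * q * k'⁻¹ := by group
        _ = k' * (h * q) * k'⁻¹ := by rw [habel h hh k' hk']; group
        _ = k' * q * (h * k'⁻¹) := by rw [hq.2]; group
        _ = _ := by rw [habel h hh k'⁻¹ ((stab2 G a b).inv_mem hk')]; group
    let sL : Sys G p a :=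
      { r := fun x y => x ≠ a ∧ ∃ l ∈ L, l • x = y
        ne := fun x y ⟨hx, l, hl, e⟩ => ⟨hx, e ▸ Sys.smul_ne (C.le hl.1) hx⟩
        refl := fun x hx => ⟨hx, 1, L.one_mem, one_smul _ _⟩
        symm := fun x y ⟨hx, l, hl, e⟩ =>
          ⟨e ▸ Sys.smul_ne (C.le hl.1) hx, l⁻¹, L.inv_mem hl, by rw [← e, inv_smul_smul]⟩
        trans := fun x y z ⟨hx, l, hl, e⟩ ⟨_, l', hl', e'⟩ =>
          ⟨hx, l' * l, L.mul_mem hl' hl, by rw [mul_smul, e, e']⟩
        inv := fun k hk x y ⟨hx, l, hl, e⟩ =>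
          ⟨Sys.smul_ne hk hx, k * l * k⁻¹, hLconj k hk l hl, by simp [mul_smul, e]⟩
        card := by
          intro x hx
          have himg : {y | x ≠ a ∧ ∃ l ∈ L, l • x = y} = Set.range fun l : L => (l : G) • x := by
            ext y
            exact ⟨fun ⟨_, l, hl, e⟩ => ⟨⟨l, hl⟩, e⟩, fun ⟨⟨l, hl⟩, e⟩ => ⟨hx, l, hl, e⟩⟩
          rw [himg, Set.ncard_range_of_injective, hcardL]
          intro l l' e
          have := C.free ((l : G)⁻¹ * l') (C.P.mul_mem (C.P.inv_mem l.2.1) l'.2.1) x hx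
            (by rw [mul_smul, ← (show (l : G) • x = (l' : G) • x from e), inv_smul_smul])
          exact Subtype.ext (inv_mul_eq_one.mp this) }
    have hFix : ∀ y, y ∈ sL.blk b ↔ h • y = y := by
      intro y
      constructor
      · rintro (rfl | ⟨-, l, hl, rfl⟩)
        · exact hh.1
        · exact (hfix_iff hh l hl.1).mpr hl.2
      · intro hy
        by_cases hya : y = a
        · exact Or.inl hya
        obtain ⟨q, hq, rfl⟩ := C.trans y hya
        exact Or.inr ⟨C.hb, q, ⟨hq, (hfix_iff hh q hq).mp hy⟩, rfl⟩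
    set h' := C.t * h * C.t⁻¹
    have hh' : h' ∈ stab2 G a b := swap_normalizes C.hta C.htb hh
    have hFix' : ∀ y, y ∈ C.t • sL.blk b ↔ h' • y = y := by
      intro y
      rw [Set.mem_smul_set_iff_inv_smul_mem, hFix, eq_inv_smul_iff]
      simp [h', mul_smul]
    obtain ⟨y, hy, hya, hyb⟩ : ∃ y ∈ C.t • sL.blk b, y ≠ a ∧ y ≠ b := by
      by_contra! hcon
      have h4 := Set.ncard_le_ncard (s := C.t • sL.blk b) (t := {a, b}) (fun y hy => by
        by_cases e : y = a
        · exact Or.inl e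
        · exact Or.inr (hcon y hy e)) (Set.toFinite _)
      rw [Set.ncard_smul_set, sL.ncard_blk C.hb, Set.ncard_pair C.hb.symm] at h4
      have := hp.out.two_le
      omega
    obtain ⟨q, hq, rfl⟩ := C.trans y hya
    have hcq : h' * q = q * h' := (hfix_iff hh' q hq).mp ((hFix' _).mp hy)
    apply hyb
    refine sL.stab_fix C.h2 C.hΩ C.hb C.hta (Set.eq_of_subset_of_ncard_le ?_
      (by rw [Set.ncard_smul_set q]) (Set.toFinite _))
    rintro _ ⟨z, hz, rfl⟩
    rw [hFix'] at hz ⊢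
    change h' • q • z = q • z
    rw [← mul_smul, hcq, mul_smul, hz]
  refine ⟨hsemi, ?_⟩
  obtain ⟨ρ, hρ, hgen⟩ := C.exists_rho
  have hρR : ρ ∈ C.R := hgen ▸ Subgroup.mem_zpowers ρ
  have hρ1 : ρ ≠ 1 := fun e => hp.out.one_lt.ne (by rw [← hρ, e, orderOf_one])
  let e : stab2 G a b → ↥(C.s.cls b \ {b}) := fun h => ⟨(h : G) • ρ • b, by
    refine ⟨?_, fun e => hρ1 ?_⟩
    · have h1 := C.s.inv (h : G) h.2.1 _ _ hρR.2
      rwa [show (h : G) • b = b from h.2.2] at h1
    · rw [Set.mem_singleton_iff] at e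
      have := smul_left_cancel (h : G) (e.trans h.2.2.symm)
      exact C.free ρ hρR.1 b C.hb this⟩
  have hinj : Function.Injective e := by
    intro h k he
    have he' : (h : G) • ρ • b = (k : G) • ρ • b := congrArg Subtype.val he
    have := hsemi (k⁻¹ * h : stab2 G a b) (k⁻¹ * h).2 (ρ • b) (C.smul_b_ne hρR.1)
      (fun e => hρ1 (C.free ρ hρR.1 b C.hb e))
      (by rw [Subgroup.coe_mul, Subgroup.coe_inv, mul_smul, he', inv_smul_smul])
    exact (inv_mul_eq_one.mp (Subtype.ext this)).symm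
  have := Nat.card_le_card_of_injective e hinj
  rw [Nat.card_coe_set_eq, Set.ncard_sdiff (by simp [C.s.self_mem_cls C.hb]) (Set.toFinite _),
    Set.ncard_singleton, Sys.cls, C.s.card b C.hb] at this
  exact this

end Ctx

end Cfsg.Agent.SquarePlusOne
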