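import Cfsg.Agent.Lib.Recog.SquarePlusOne.CaseTwo
import Mathlib.GroupTheory.Perm.Cycle.Type
import Mathlib.Combinatorics.Enumerative.DoubleCounting

/-!
# Doubly transitive groups of degree `p ^ 2 + 1` with imprimitive point stabilizer
-/

set_option autoImplicit false
set_option linter.unusedSectionVars false
set_option linter.style.haveILetI false

namespace Cfsg.Agent.SquarePlusOne

open MulAction
open scoped Pointwise

universe u v

variable {G : Type u} [Group G] [Finite G] {Ω : Type v} [Fintype Ω] [MulAction G Ω]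
  [FaithfulSMul G Ω]
variable {p : ℕ} [hp : Fact p.Prime] {a b : Ω} (C : Ctx G Ω p a b)

namespace Ctx

theorem count_absurd (C : Ctx G Ω p a b) (hp2 : p ≠ 2)
    (hsemi : ∀ h ∈ stab2 G a b, ∀ x, x ≠ a → x ≠ b → h • x = x → h = 1)
    (hsmall : Nat.card (stab2 G a b) ≤ p - 1) : False := by
  classical
  haveI := Fintype.ofFinite G
  have hp3 : 3 ≤ p := by have := hp.out.two_le; omega
  obtain ⟨k, hk⟩ := hp.out.odd_of_ne_two hp2
  have hv : Fintype.card Ω = 2 * (2 * (k * k + k) + 1) := by rw [C.hΩ, hk]; ring
  -- three fixed points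
  have hthree : ∀ (g : G) (x y z : Ω), x ≠ y → z ≠ x → z ≠ y → g • x = x → g • y = y → g • z = z →
      g = 1 := by
    intro g x y z hxy hzx hzy hgx hgy hgz
    obtain ⟨m, hma, hmb⟩ := C.h2 x y a b hxy C.hb.symm
    have h1 : m * g * m⁻¹ = 1 := hsemi _ (mem_stab2.mpr
      ⟨by rw [mul_smul, mul_smul, inv_smul_eq_iff.mpr hma.symm, hgx, hma],
       by rw [mul_smul, mul_smul, inv_smul_eq_iff.mpr hmb.symm, hgy, hmb]⟩) (m • z)
      (fun e => hzx (smul_left_cancel m (e.trans hma.symm)))
      (fun e => hzy (smul_left_cancel m (e.trans hmb.symm)))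
      (by rw [mul_smul, mul_smul, inv_smul_smul, hgz])
    exact conj_eq_one_iff.mp h1
  have hperm : ∀ g : G, (toPermHom G Ω g) = 1 → g = 1 := fun g hg =>
    eq_of_smul_eq_smul (α := Ω) fun x => by
      rw [one_smul]
      exact Equiv.Perm.ext_iff.mp hg x
  by_cases hfix : ∃ (z : G) (x : Ω), orderOf z = 2 ∧ z • x = x
  · -- counting involutions with fixed points
    have hsq : ∀ {z : G}, orderOf z = 2 → z * z = 1 := fun {z} hz => by
      rw [← pow_two, ← hz, pow_orderOf_eq_one]
    let I : Finset G := Finset.univ.filter fun z => orderOf z = 2 ∧ ∃ x : Ω, z • x = x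
    have hmov : ∀ z ∈ I, (Finset.univ.filter fun x : Ω => z • x ≠ x).card = Fintype.card Ω - 2 := by
      intro z hz
      obtain ⟨-, hz2, x, hx⟩ := Finset.mem_filter.mp hz
      have heven : 2 ∣ (toPermHom G Ω z).support.card := by
        refine Equiv.Perm.two_dvd_card_support ?_
        rw [← map_pow, ← hz2, pow_orderOf_eq_one, map_one]
      have hsupp : (toPermHom G Ω z).support = Finset.univ.filter fun x => z • x ≠ x := by
        ext y; simp [Equiv.Perm.mem_support]
      rw [hsupp] at heven
      have hle : (Finset.univ.filter fun x : Ω => z • x ≠ x).card + 1 ≤ Fintype.card Ω := by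
        rw [← Finset.card_univ]
        exact Finset.card_lt_card ((Finset.filter_ssubset (s := (Finset.univ : Finset Ω))).mpr ⟨x, Finset.mem_univ x, by simpa using hx⟩)
      have hge : Fintype.card Ω ≤ (Finset.univ.filter fun x : Ω => z • x ≠ x).card + 2 := by
        have h1 : (Finset.univ.filter fun x : Ω => ¬ z • x ≠ x).card ≤ 2 := by
          by_contra! h3
          obtain ⟨u, v, w, hu, hv', hw, huv, huw, hvw⟩ := Finset.two_lt_card_iff.mp h3
          simp only [Finset.mem_filter, Finset.mem_univ, true_and, not_not] at hu hv' hw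
          have := hthree z u v w huv huw.symm hvw.symm hu hv' hw
          rw [this, orderOf_one] at hz2
          omega
        have := Finset.card_filter_add_card_filter_not (s := (Finset.univ : Finset Ω))
          (fun x : Ω => z • x ≠ x)
        rw [Finset.card_univ] at this
        omega
      omega
    have hfix2 : ∀ z ∈ I, (Finset.univ.filter fun x : Ω => z • x = x).card = 2 := by
      intro z hz
      have h1 := hmov z hz
      have := Finset.card_filter_add_card_filter_not (s := (Finset.univ : Finset Ω)) (fun x : Ω => z • x = x)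
      rw [Finset.card_univ] at this
      simp only [ne_eq] at h1
      have : 2 ≤ Fintype.card Ω := by omega
      omega
    let OD : Finset (Ω × Ω) := Finset.univ.offDiag
    have hOD : OD.card = Fintype.card Ω * (Fintype.card Ω - 1) := by
      rw [Finset.offDiag_card, Finset.card_univ, Nat.mul_sub_one]
    -- lower bound for the number of involutions with fixed points
    have hA : OD.card ≤ I.card * 2 := by
      have h1 := Finset.sum_card_bipartiteAbove_eq_sum_card_bipartiteBelow
        (s := I) (t := OD) (fun (z : G) (q : Ω × Ω) => z • q.1 = q.1 ∧ z • q.2 = q.2)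
      have h2 : ∀ q ∈ OD, 1 ≤ (I.bipartiteBelow (fun (z : G) (q : Ω × Ω) => z • q.1 = q.1 ∧ z • q.2 = q.2) q).card := by
        intro q hq
        obtain ⟨z, x, hz2, hx⟩ := hfix
        have hzI : z ∈ I := Finset.mem_filter.mpr ⟨Finset.mem_univ _, hz2, x, hx⟩
        obtain ⟨u, w, huw, he⟩ := Finset.card_eq_two.mp (hfix2 z hzI)
        have hu : z • u = u := by
          have : u ∈ Finset.univ.filter fun x => z • x = x := by rw [he]; simp
          exact (Finset.mem_filter.mp this).2
        have hw : z • w = w := by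
          have : w ∈ Finset.univ.filter fun x => z • x = x := by rw [he]; simp
          exact (Finset.mem_filter.mp this).2
        obtain ⟨m, hm1, hm2⟩ := C.h2 u w q.1 q.2 huw (Finset.mem_offDiag.mp hq).2.2
        refine Finset.card_pos.mpr ⟨m * z * m⁻¹, ?_⟩
        rw [Finset.mem_bipartiteBelow]
        have hq1 : (m * z * m⁻¹) • q.1 = q.1 := by
          rw [mul_smul, mul_smul, inv_smul_eq_iff.mpr hm1.symm, hu, hm1]
        refine ⟨Finset.mem_filter.mpr ⟨Finset.mem_univ _, ?_, q.1, hq1⟩, hq1, ?_⟩
        · rw [← MulAut.conj_apply, MulEquiv.orderOf_eq, hz2]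
        · rw [mul_smul, mul_smul, inv_smul_eq_iff.mpr hm2.symm, hw, hm2]
      have h3 : ∀ z ∈ I, (OD.bipartiteAbove (fun (z : G) (q : Ω × Ω) => z • q.1 = q.1 ∧ z • q.2 = q.2) z).card = 2 := by
        intro z hz
        have : OD.bipartiteAbove (fun (z : G) (q : Ω × Ω) => z • q.1 = q.1 ∧ z • q.2 = q.2) z =
            (Finset.univ.filter fun x => z • x = x).offDiag := by
          ext q
          simp only [Finset.mem_bipartiteAbove, Finset.mem_offDiag, Finset.mem_filter, Finset.mem_univ,
            true_and, OD]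
          tauto
        rw [this, Finset.offDiag_card, hfix2 z hz]
      calc OD.card = ∑ q ∈ OD, 1 := by simp
        _ ≤ _ := Finset.sum_le_sum h2
        _ = _ := by rw [← h1, Finset.sum_congr rfl h3]; simp
    -- upper bound through the elements interchanging a pair
    have hB : I.card * (Fintype.card Ω - 2) ≤ OD.card * Nat.card (stab2 G a b) := by
      have h1 := Finset.sum_card_bipartiteAbove_eq_sum_card_bipartiteBelow
        (s := I) (t := OD) (fun (z : G) (q : Ω × Ω) => z • q.1 = q.2)
      have h2 : ∀ q ∈ OD, (I.bipartiteBelow (fun (z : G) (q : Ω × Ω) => z • q.1 = q.2) q).card ≤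
          Nat.card (stab2 G a b) := by
        intro q hq
        rcases (I.bipartiteBelow (fun (z : G) (q : Ω × Ω) => z • q.1 = q.2) q).eq_empty_or_nonempty with he | ⟨z₀, hz₀⟩
        · simp [he]
        obtain ⟨hz₀I, hz₀q⟩ := (Finset.mem_bipartiteBelow _).mp hz₀
        obtain ⟨m, hm1, hm2⟩ := C.h2 q.1 q.2 a b (Finset.mem_offDiag.mp hq).2.2 C.hb.symm
        have hswap : ∀ z ∈ I, z • q.1 = q.2 → z • q.2 = q.1 := fun z hz he => by
          rw [← he, ← mul_smul, hsq (Finset.mem_filter.mp hz).2.1, one_smul]
        rw [Nat.card_eq_fintype_card, ← Finset.card_univ]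
        refine Finset.card_le_card_of_injOn
          (fun z => if h : m * (z₀ * z) * m⁻¹ ∈ stab2 G a b then (⟨_, h⟩ : stab2 G a b) else 1)
          (fun z _ => Finset.mem_univ _) ?_
        intro z hz z' hz' he
        have hmem : ∀ z ∈ I.bipartiteBelow (fun (z : G) (q : Ω × Ω) => z • q.1 = q.2) q,
            m * (z₀ * z) * m⁻¹ ∈ stab2 G a b := by
          intro z hz
          obtain ⟨hzI, hzq⟩ := (Finset.mem_bipartiteBelow _).mp hz
          rw [mem_stab2]
          constructor
          · rw [mul_smul, mul_smul, inv_smul_eq_iff.mpr hm1.symm, mul_smul, hzq,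
              hswap z₀ hz₀I hz₀q, hm1]
          · rw [mul_smul, mul_smul, inv_smul_eq_iff.mpr hm2.symm, mul_smul, hswap z hzI hzq,
              hz₀q, hm2]
        simp only [dif_pos (hmem z hz), dif_pos (hmem z' hz')] at he
        exact mul_left_cancel (mul_left_cancel (mul_right_cancel (congrArg Subtype.val he)))
      have h3 : ∀ z ∈ I, (OD.bipartiteAbove (fun (z : G) (q : Ω × Ω) => z • q.1 = q.2) z).card =
          Fintype.card Ω - 2 := by
        intro z hz
        rw [← hmov z hz]
        refine Finset.card_nbij' Prod.fst (fun x => (x, z • x)) ?_ ?_ ?_ ?_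
        · intro q hq
          obtain ⟨hq1, hq2⟩ := (Finset.mem_bipartiteAbove _).mp hq
          refine Finset.mem_filter.mpr ⟨Finset.mem_univ _, ?_⟩
          rw [hq2]
          exact (Finset.mem_offDiag.mp hq1).2.2.symm
        · intro x hx
          exact (Finset.mem_bipartiteAbove _).mpr ⟨Finset.mem_offDiag.mpr
            ⟨Finset.mem_univ _, Finset.mem_univ _, Ne.symm (Finset.mem_filter.mp hx).2⟩, rfl⟩
        · intro q hq
          exact Prod.ext rfl ((Finset.mem_bipartiteAbove _).mp hq).2
        · intro x _; rfl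
      calc I.card * (Fintype.card Ω - 2) = ∑ z ∈ I, (Fintype.card Ω - 2) := by simp
        _ = _ := by rw [← Finset.sum_congr rfl h3, h1]
        _ ≤ _ := (Finset.sum_le_card_nsmul _ _ _ h2).trans_eq (smul_eq_mul _ _)
    rw [hOD] at hA hB
    have h1 : Fintype.card Ω * (Fintype.card Ω - 1) * (Fintype.card Ω - 2) ≤
        Fintype.card Ω * (Fintype.card Ω - 1) * (2 * (p - 1)) := by
      calc _ ≤ I.card * 2 * (Fintype.card Ω - 2) := Nat.mul_le_mul_right _ hA
        _ = 2 * (I.card * (Fintype.card Ω - 2)) := by ring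
        _ ≤ 2 * (Fintype.card Ω * (Fintype.card Ω - 1) * (p - 1)) :=
            Nat.mul_le_mul_left 2 (hB.trans (Nat.mul_le_mul_left _ hsmall))
        _ = _ := by ring
    have h2 := Nat.le_of_mul_le_mul_left h1 (Nat.mul_pos (by omega) (by omega))
    rw [C.hΩ] at h2
    have h3 : p * 3 ≤ p ^ 2 := by rw [pow_two]; exact Nat.mul_le_mul le_rfl hp3
    omega
  · push Not at hfix
    -- all involutions are odd permutations
    let sg : G →* ℤˣ := Equiv.Perm.sign.comp (toPermHom G Ω)
    have hsign : ∀ z : G, orderOf z = 2 → sg z = -1 := by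
      intro z hz
      have hord : orderOf (toPermHom G Ω z) = 2 :=
        (orderOf_injective (toPermHom G Ω) ((injective_iff_map_eq_one _).mpr hperm) z).trans hz
      obtain ⟨n, hn⟩ := Equiv.Perm.cycleType_prime_order (by rw [hord]; exact Nat.prime_two)
      have hsupp : (toPermHom G Ω z).support = Finset.univ := by
        ext y; simp [Equiv.Perm.mem_support, hfix z y hz]
      have hsum := (toPermHom G Ω z).sum_cycleType
      rw [hsupp, hn, hord, Multiset.sum_replicate, smul_eq_mul, Finset.card_univ, hv] at hsum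
      show Equiv.Perm.sign (toPermHom G Ω z) = -1
      rw [Equiv.Perm.sign_of_cycleType, hn, hord, Multiset.sum_replicate, Multiset.card_replicate,
        smul_eq_mul]
      exact Odd.neg_one_pow ⟨3 * (k * k + k) + 1, by omega⟩
    set N := sg.ker
    have hodd : ¬ 2 ∣ Nat.card N := by
      intro h2
      haveI := Fact.mk Nat.prime_two
      obtain ⟨z, hz⟩ := exists_prime_orderOf_dvd_card' 2 h2
      have h3 := hsign z (by rw [Subgroup.orderOf_coe, hz])
      rw [show sg (z : G) = 1 from z.2] at h3
      exact absurd h3 (by decide)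
    have hGv : Fintype.card Ω ≤ Nat.card G := by
      rw [C.hΩ, card_eq C.h2 C.hΩ C.hb]
      exact Nat.le_mul_of_pos_right _ Nat.card_pos
    obtain ⟨m, hmN, c, hc⟩ : ∃ m ∈ N, ∃ c : Ω, m • c ≠ c := by
      by_contra! h
      have hbot : N = ⊥ := (Subgroup.eq_bot_iff_forall _).mpr fun m hm =>
        eq_of_smul_eq_smul (α := Ω) fun x => by rw [one_smul, h m hm x]
      have hinj : Function.Injective sg := (MonoidHom.ker_eq_bot_iff sg).mp hbot
      have h1 := Nat.card_le_card_of_injective sg hinj
      rw [Nat.card_eq_fintype_card (α := ℤˣ), Fintype.card_units_int] at h1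
      omega
    have htrans : ∀ y : Ω, ∃ n ∈ N, n • c = y := by
      intro y
      by_cases hy : y = c
      · exact ⟨1, N.one_mem, by rw [one_smul, hy]⟩
      obtain ⟨g, hg1, hg2⟩ := C.h2 c (m • c) c y hc.symm (Ne.symm hy)
      exact ⟨g * m * g⁻¹, (MonoidHom.normal_ker sg).conj_mem m hmN g,
        by rw [mul_smul, mul_smul, inv_smul_eq_iff.mpr hg1.symm, hg2]⟩
    apply hodd
    have horb : orbit N c = Set.univ := Set.eq_univ_of_forall fun y => by
      obtain ⟨n, hn, rfl⟩ := htrans y
      exact ⟨⟨n, hn⟩, rfl⟩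
    have h1 := Subgroup.index_mul_card (stabilizer N c)
    rw [index_stabilizer, horb, Set.ncard_univ, Nat.card_eq_fintype_card (α := Ω), hv, mul_assoc] at h1
    exact ⟨_, h1.symm⟩

theorem odd_absurd (C : Ctx G Ω p a b) (hp2 : p ≠ 2) : False := by
  by_cases hK : C.KTrans
  · exact C.case_one hp2 hK
  have hR := C.rNormal_or hK
  obtain ⟨h1, h2⟩ := C.semiregular hR (C.P_normal hR)
  exact C.count_absurd hp2 h1 h2

theorem card_of_two (C : Ctx G Ω p a b) (hp2 : p = 2) : Nat.card G = 20 := by
  have hH : stab2 G a b = ⊥ := by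
    by_contra hne
    obtain ⟨g, hg, hg1⟩ := (Subgroup.bot_or_exists_ne_one _).resolve_left hne
    have hcls : ∀ y ∈ C.s.cls b, g • y = y := by
      intro y hy
      by_contra hy'
      have hr : C.s.r b (g • y) := by
        have := C.s.inv g hg.1 _ _ hy
        rwa [show g • b = b from hg.2] at this
      have hyb : y ≠ b := fun e => hy' (e ▸ hg.2)
      have hgyb : g • y ≠ b := fun e => hyb (smul_left_cancel g (e.trans hg.2.symm))
      have hsub : ({b, y, g • y} : Set Ω) ⊆ C.s.cls b := by
        rintro z (rfl | rfl | rfl)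
        · exact C.s.self_mem_cls C.hb
        · exact hy
        · exact hr
      have := Set.ncard_le_ncard hsub (Set.toFinite _)
      rw [Sys.cls, C.s.card b C.hb, hp2,
        Set.ncard_insert_of_notMem (by simp [Ne.symm hyb, Ne.symm hgyb]) (Set.toFinite _),
        Set.ncard_pair (Ne.symm hy')] at this
      omega
    have h2 : g * g = 1 := by
      refine eq_of_smul_eq_smul (α := Ω) fun x => ?_
      rw [mul_smul, one_smul]
      by_contra hx
      have hgx : g • x ≠ x := fun e => hx (by rw [e, e])
      have hfix : ∀ y, y ∈ insert a (C.s.cls b) → g • y = y := by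
        rintro y (rfl | hy)
        · exact hg.1
        · exact hcls y hy
      have hout : ∀ y, g • y ≠ y → y ∈ (insert a (C.s.cls b))ᶜ := fun y hy hmem => hy (hfix y hmem)
      have hsub : ({x, g • x, g • g • x} : Set Ω) ⊆ (insert a (C.s.cls b))ᶜ := by
        rintro z (rfl | rfl | rfl)
        · exact hout _ hgx
        · exact hout _ fun e => hgx (smul_left_cancel g e)
        · exact hout _ fun e => hgx (smul_left_cancel g (smul_left_cancel g e))
      have := Set.ncard_le_ncard hsub (Set.toFinite _)
      rw [Set.ncard_compl, Nat.card_eq_fintype_card, C.hΩ,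
        show (insert a (C.s.cls b)).ncard = p + 1 from C.s.ncard_blk C.hb,
        Set.ncard_insert_of_notMem (by simp [Ne.symm hgx, Ne.symm hx]) (Set.toFinite _),
        Set.ncard_pair (fun e => hgx (smul_left_cancel g e).symm), hp2] at this
      omega
    have hd := Subgroup.orderOf_dvd_natCard _ hg
    rw [orderOf_eq_prime (by rw [pow_two]; exact h2) hg1] at hd
    exact not_dvd_stab2 C.h2 C.hΩ C.hb C.s (hp2.symm ▸ hd)
  rw [card_eq C.h2 C.hΩ C.hb, card_stab C.h2 C.hΩ C.hb, hH, Subgroup.card_bot, hp2]
  norm_num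

end Ctx

end Cfsg.Agent.SquarePlusOne
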