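import Cfsg.Agent.Lib.Recog.SquarePlusOne.Blocks
import Mathlib.GroupTheory.Sylow
import Mathlib.GroupTheory.Index
import Mathlib.Algebra.Group.Subgroup.Finite

/-!
# The Sylow subgroup of a point stabilizer is regular on the other points
-/

set_option autoImplicit false
set_option linter.unusedSectionVars false

namespace Cfsg.Agent.SquarePlusOne

open MulAction
open scoped Pointwise

universe u v

variable {G : Type u} [Group G] [Finite G] {Ω : Type v} [Fintype Ω] [MulAction G Ω]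
  [FaithfulSMul G Ω]
variable {p : ℕ} [hp : Fact p.Prime] {a : Ω} (s : Sys G p a)

/-- A `p`-subgroup fixing `a` and `w` fixes the class of `w`. -/
theorem pgroup_fix_cls (Q : Subgroup G) (hQ : IsPGroup p Q) {w : Ω} (hwa : w ≠ a)
    (hQa : ∀ q ∈ Q, q • a = a) (hQw : ∀ q ∈ Q, q • w = w) {x : Ω} (hx : x ∈ s.cls w) :
    ∀ q ∈ Q, q • x = x := by
  classical
  intro q hq
  by_cases hxw : x = w
  · subst hxw; exact hQw q hq
  obtain ⟨n, hn⟩ := hQ.card_orbit (a := x)
  have hsub : orbit Q x ⊆ s.cls w \ {w} := by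
    rintro _ ⟨⟨k, hk⟩, rfl⟩
    refine ⟨?_, ?_⟩
    · rw [Sys.mem_cls]
      simpa [hQw k hk, Subgroup.smul_def] using s.inv k (hQa k hk) w x hx
    · intro h
      apply hxw
      have h' : k • x = w := h
      rw [← hQw k hk] at h'
      exact smul_left_cancel k h'
  have hle := Set.ncard_le_ncard hsub (Set.toFinite _)
  rw [Set.ncard_sdiff (by simp [s.self_mem_cls hwa]) (Set.toFinite _), Set.ncard_singleton,
    Sys.cls, s.card w hwa, ← Nat.card_coe_set_eq, hn] at hle
  have h0 : n = 0 := by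
    by_contra h0
    have := Nat.le_self_pow h0 p
    have := hp.out.pos
    omega
  rw [h0, pow_zero, Nat.card_eq_one_iff_unique] at hn
  haveI := hn.1
  exact congrArg Subtype.val (Subsingleton.elim
    (⟨(⟨q, hq⟩ : Q) • x, ⟨⟨q, hq⟩, rfl⟩⟩ : orbit Q x) ⟨x, mem_orbit_self x⟩)

variable (h2 : TwoTrans G Ω) (hΩ : Fintype.card Ω = p ^ 2 + 1) {b : Ω} (hb : b ≠ a)

include h2 hΩ

theorem ncard_compl : ({a}ᶜ : Set Ω).ncard = p ^ 2 := by
  rw [Set.ncard_compl, Set.ncard_singleton, Nat.card_eq_fintype_card, hΩ]; omega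

include hb

theorem card_stab : Nat.card (stabilizer G a) = p ^ 2 * Nat.card (stab2 G a b) := by
  have horb : orbit (stabilizer G a) b = ({a}ᶜ : Set Ω) := by
    ext x
    constructor
    · rintro ⟨⟨g, hg⟩, rfl⟩
      exact Sys.smul_ne hg hb
    · intro hx
      obtain ⟨g, hga, hgb⟩ := h2 a b a x hb.symm (Ne.symm hx)
      exact ⟨⟨g, hga⟩, hgb⟩
  have h := Subgroup.index_mul_card (stabilizer (stabilizer G a) b)
  rw [index_stabilizer, horb, ncard_compl h2 hΩ] at h
  rw [← h]
  congr 1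
  exact Nat.card_congr
    { toFun := fun g => ⟨g.1.1, g.1.2, g.2⟩
      invFun := fun g => ⟨⟨g.1, g.2.1⟩, g.2.2⟩ }

omit [FaithfulSMul G Ω] in
theorem card_eq : Nat.card G = (p ^ 2 + 1) * Nat.card (stabilizer G a) := by
  have horb : orbit G a = Set.univ := by
    refine Set.eq_univ_of_forall fun x => ?_
    by_cases hxa : x = a
    · exact ⟨1, by rw [hxa]; exact one_smul G a⟩
    · obtain ⟨g, hg, -⟩ := h2 a b x a hb.symm hxa
      exact ⟨g, hg⟩
  have h := Subgroup.index_mul_card (stabilizer (G) a)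
  rw [index_stabilizer, horb, Set.ncard_univ, Nat.card_eq_fintype_card (α := Ω), hΩ] at h
  exact h.symm

/-- A Sylow subgroup of the point stabilizer is transitive on the other points. -/
theorem exists_transitive (Q : Subgroup G) (hQ : IsPGroup p Q) (hQH : Q ≤ stab2 G a b) :
    ∃ P : Subgroup G, P ≤ stabilizer G a ∧ Q ≤ P ∧ IsPGroup p P ∧
      (∀ x, x ≠ a → ∃ g ∈ P, g • b = x) ∧
      Nat.card P = p ^ 2 * p ^ (Nat.card (stab2 G a b)).factorization p := by
  set A := stabilizer G a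
  have hQA : Q ≤ A := fun q hq => (hQH hq).1
  obtain ⟨P, hP⟩ := (hQ.comap_subtype (K := A)).exists_le_sylow
  let Pm : Subgroup G := (P : Subgroup A).map A.subtype
  have hcardPm : Nat.card Pm = Nat.card (P : Subgroup A) :=
    Subgroup.card_map_of_injective A.subtype_injective
  have hPmA : Pm ≤ A := Subgroup.map_subtype_le _
  have hPmQ : Q ≤ Pm := fun q hq => ⟨⟨q, hQA hq⟩, hP hq, rfl⟩
  have hPmp : IsPGroup p Pm := P.2.map A.subtype
  set e := (Nat.card (stab2 G a b)).factorization p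
  have hH0 : Nat.card (stab2 G a b) ≠ 0 := Nat.card_pos.ne'
  have hPcard : Nat.card Pm = p ^ 2 * p ^ e := by
    rw [hcardPm, Sylow.card_eq_multiplicity, card_stab h2 hΩ hb,
      Nat.factorization_mul (pow_ne_zero _ hp.out.ne_zero) hH0, Finsupp.add_apply,
      hp.out.factorization_pow, Finsupp.single_eq_same, pow_add]
  refine ⟨Pm, hPmA, hPmQ, hPmp, ?_, hPcard⟩
  -- the stabilizer of `b` in the Sylow subgroup is not larger than allowed
  have hst : Nat.card (stabilizer Pm b) ≤ p ^ e := by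
    obtain ⟨m, hm⟩ := (hPmp.to_subgroup (stabilizer Pm b)).exists_card_eq
    have hdvd : Nat.card (stabilizer Pm b) ∣ Nat.card (stab2 G a b) := by
      rw [← Subgroup.card_map_of_injective (K := stabilizer Pm b) Pm.subtype_injective]
      refine Subgroup.card_dvd_of_le ?_
      rintro _ ⟨g, hg, rfl⟩
      exact ⟨hPmA g.2, hg⟩
    rw [hm] at hdvd ⊢
    exact Nat.pow_le_pow_right hp.out.pos ((hp.out.pow_dvd_iff_le_factorization hH0).mp hdvd)
  have horb := Subgroup.index_mul_card (stabilizer Pm b)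
  rw [index_stabilizer, hPcard] at horb
  have hsub : orbit Pm b ⊆ ({a}ᶜ : Set Ω) := by
    rintro _ ⟨⟨g, hg⟩, rfl⟩
    exact Sys.smul_ne (hPmA hg) hb
  have hge : p ^ 2 ≤ (orbit Pm b).ncard := by
    by_contra hlt
    have := Nat.mul_lt_mul_of_lt_of_le (not_le.mp hlt) hst (pow_pos hp.out.pos e)
    omega
  have heq := Set.eq_of_subset_of_ncard_le hsub (by rw [ncard_compl h2 hΩ]; exact hge)
    (Set.toFinite _)
  intro x hx
  obtain ⟨⟨g, hg⟩, hgx⟩ : x ∈ orbit Pm b := heq ▸ hx
  exact ⟨g, hg, hgx⟩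

/-- Two point stabilizers have order prime to `p`. -/
theorem not_dvd_stab2 (s : Sys G p a) : ¬ p ∣ Nat.card (stab2 G a b) := by
  intro hdvd
  set H := stab2 G a b
  obtain ⟨Qs⟩ : Nonempty (Sylow p H) := inferInstance
  let Q : Subgroup G := (Qs : Subgroup H).map H.subtype
  have hQp : IsPGroup p Q := Qs.2.map H.subtype
  have hQH : Q ≤ H := Subgroup.map_subtype_le _
  have hcardQ : Nat.card Q = p ^ (Nat.card H).factorization p := by
    rw [Subgroup.card_map_of_injective H.subtype_injective, Sylow.card_eq_multiplicity]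
  have hQ1 : Q ≠ ⊥ := by
    intro h
    rw [h, Subgroup.card_bot] at hcardQ
    have := (hp.out.dvd_iff_one_le_factorization Nat.card_pos.ne').mp hdvd
    exact (Nat.one_lt_pow (by omega) hp.out.one_lt).ne hcardQ
  obtain ⟨P, hPA, hQP, hPp, hPt, -⟩ := exists_transitive h2 hΩ hb Q hQp hQH
  -- the elements of `P` fixing `b` lie in `Q`
  have hPb : ∀ g ∈ P, g • b = b → g ∈ Q := by
    intro g hg hgb
    let Pb : Subgroup H := P.comap H.subtype
    have hPbp : IsPGroup p Pb := hPp.comap_subtype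
    have hle : (Qs : Subgroup H) ≤ Pb := fun q hq => hQP ⟨q, hq, rfl⟩
    have heq := Qs.3 hPbp hle
    exact ⟨⟨g, hPA hg, hgb⟩, heq ▸ (show (⟨g, hPA hg, hgb⟩ : H) ∈ Pb from hg), rfl⟩
  -- the fixed points of `Q` are an orbit of the normalizer
  let Φ : Set Ω := {x | x ≠ a ∧ ∀ q ∈ Q, q • x = x}
  let N : Subgroup G := P ⊓ Subgroup.normalizer (Q : Set G)
  have horb : orbit N b = Φ := by
    ext x
    constructor
    · rintro ⟨⟨g, hgP, hgN⟩, rfl⟩
      refine ⟨Sys.smul_ne (hPA hgP) hb, fun q hq => ?_⟩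
      have h1 : g⁻¹ * q * g ∈ Q := (Subgroup.mem_normalizer_iff''.mp hgN q).mp hq
      change q • g • b = g • b
      conv_rhs => rw [← (hQH h1).2]
      simp [mul_smul]
    · rintro ⟨hxa, hfix⟩
      obtain ⟨g, hgP, hgx⟩ := hPt x hxa
      have hc : ∀ q ∈ Q, g⁻¹ * q * g ∈ Q := by
        intro q hq
        refine hPb _ (P.mul_mem (P.mul_mem (P.inv_mem hgP) (hQP hq)) hgP) ?_
        rw [mul_smul, mul_smul, hgx, hfix q hq, ← hgx, inv_smul_smul]
      have hmap : Q.map (MulAut.conj g⁻¹).toMonoidHom = Q := by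
        refine Subgroup.eq_of_le_of_card_ge ?_ ?_
        · rintro _ ⟨q, hq, rfl⟩
          simpa using hc q hq
        · rw [Subgroup.card_map_of_injective (f := (MulAut.conj g⁻¹).toMonoidHom) (MulEquiv.injective _)]
      refine ⟨⟨g, hgP, ?_⟩, hgx⟩
      show g ∈ Subgroup.normalizer (Q : Set G)
      rw [Subgroup.mem_normalizer_iff'']
      intro q
      refine ⟨hc q, fun h => ?_⟩
      rw [← hmap] at h
      obtain ⟨q', hq', he⟩ := h
      have : q' = q := by
        have he' : g⁻¹ * q' * g = g⁻¹ * q * g := by simpa using he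
        exact mul_left_cancel (mul_right_cancel he')
      exact this ▸ hq'
  obtain ⟨n, hn⟩ := (hPp.to_le (inf_le_left : N ≤ P)).card_orbit (a := b)
  rw [Nat.card_coe_set_eq, horb] at hn
  have hcls : s.cls b ⊆ Φ := fun x hx => ⟨(s.ne b x hx).2,
    pgroup_fix_cls s Q hQp hb (fun q hq => (hQH hq).1) (fun q hq => (hQH hq).2) hx⟩
  have hlt : Φ.ncard < p ^ 2 := by
    rw [← ncard_compl h2 hΩ (a := a)]
    refine Set.ncard_lt_ncard ⟨fun x hx => hx.1, fun h => hQ1 ?_⟩ (Set.toFinite _)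
    rw [Subgroup.eq_bot_iff_forall]
    intro q hq
    refine eq_of_smul_eq_smul (α := Ω) fun x => ?_
    rw [one_smul]
    by_cases hxa : x = a
    · rw [hxa]; exact (hQH hq).1
    · exact (h hxa).2 q hq
  have hΦ : Φ = s.cls b := by
    refine (Set.eq_of_subset_of_ncard_le hcls ?_ (Set.toFinite _)).symm
    rw [Sys.cls, s.card b hb, hn]
    have : n < 2 := (Nat.pow_lt_pow_iff_right hp.out.one_lt).mp (hn ▸ hlt)
    calc p ^ n ≤ p ^ 1 := Nat.pow_le_pow_right hp.out.pos (by omega)
      _ = p := pow_one p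
  -- the fixed set is pointed at `b` as well
  obtain ⟨g, hga, hgb⟩ := h2 a b b a hb.symm hb
  have hsub : g • s.blk b ⊆ s.blk b := by
    rintro _ ⟨x, hx, rfl⟩
    by_cases hgx : g • x = a
    · change g • x ∈ s.blk b
      rw [hgx]; exact Set.mem_insert a _
    refine Set.mem_insert_of_mem _ (hΦ ▸ ⟨hgx, fun q hq => ?_⟩)
    rcases hx with rfl | hx
    · change q • g • x = g • x
      rw [hga]; exact (hQH hq).2
    have hQ1p : IsPGroup p (Q.map (MulAut.conj g⁻¹).toMonoidHom) := hQp.map _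
    have := pgroup_fix_cls s _ hQ1p hb ?_ ?_ hx (g⁻¹ * q * g) ⟨q, hq, by simp⟩
    · change q • g • x = g • x
      conv_rhs => rw [← this]
      simp [mul_smul]
    · rintro _ ⟨q', hq', rfl⟩
      simp only [MulEquiv.coe_toMonoidHom, MulAut.conj_apply, inv_inv, mul_smul, hga,
        (mem_stab2.mp (hQH hq')).2]
      rw [← hga, inv_smul_smul]
    · rintro _ ⟨q', hq', rfl⟩
      simp only [MulEquiv.coe_toMonoidHom, MulAut.conj_apply, inv_inv, mul_smul, hgb,
        (mem_stab2.mp (hQH hq')).1]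
      rw [← hgb, inv_smul_smul]
  have heq : g • s.blk b = s.blk b := Set.eq_of_subset_of_ncard_le hsub
    (by rw [Set.ncard_smul_set]) (Set.toFinite _)
  exact s.asym h2 hΩ hb hga heq

end Cfsg.Agent.SquarePlusOne
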