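import Cfsg.Agent.Lib.Recog.SquarePlusOne.Regular
import Mathlib.GroupTheory.PGroup

/-!
# The kernel of the block action and the regular Sylow subgroup
-/

set_option autoImplicit false
set_option linter.unusedSectionVars false

namespace Cfsg.Agent.SquarePlusOne

open MulAction
open scoped Pointwise

universe u v

variable {G : Type u} [Group G] [Finite G] {Ω : Type v} [Fintype Ω] [MulAction G Ω]
  [FaithfulSMul G Ω]

/-- The standing hypotheses. -/
structure Ctx (G : Type u) [Group G] (Ω : Type v) [Fintype Ω] [MulAction G Ω] (p : ℕ) (a b : Ω) where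
  s : Sys G p a
  h2 : TwoTrans G Ω
  hΩ : Fintype.card Ω = p ^ 2 + 1
  hb : b ≠ a
  P : Subgroup G
  le : P ≤ stabilizer G a
  card : Nat.card P = p ^ 2
  trans : ∀ x, x ≠ a → ∃ g ∈ P, g • b = x
  free : ∀ g ∈ P, ∀ x, x ≠ a → g • x = x → g = 1
  comm : ∀ g ∈ P, ∀ h ∈ P, g * h = h * g
  t : G
  hta : t • a = b
  htb : t • b = a

variable {p : ℕ} [hp : Fact p.Prime] {a b : Ω}

theorem exists_ctx (s : Sys G p a) (h2 : TwoTrans G Ω) (hΩ : Fintype.card Ω = p ^ 2 + 1)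
    (hb : b ≠ a) : Nonempty (Ctx G Ω p a b) := by
  obtain ⟨P, hPA, -, hPp, hPt, hPc⟩ :=
    exists_transitive h2 hΩ hb ⊥ IsPGroup.of_bot bot_le
  rw [Nat.factorization_eq_zero_of_not_dvd (not_dvd_stab2 h2 hΩ hb s), pow_zero, mul_one] at hPc
  obtain ⟨t, hta, htb⟩ := h2 a b b a hb.symm hb
  refine ⟨⟨s, h2, hΩ, hb, P, hPA, hPc, hPt, ?_, ?_, t, hta, htb⟩⟩
  · intro g hg x hx hgx
    by_contra hg1
    obtain ⟨k, hka, hkx⟩ := h2 a x a b hx.symm hb.symm
    have hmem : k * g * k⁻¹ ∈ stab2 G a b := by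
      rw [mem_stab2]
      refine ⟨?_, ?_⟩
      · rw [mul_smul, mul_smul, inv_smul_eq_iff.mpr hka.symm, show g • a = a from hPA hg, hka]
      · rw [mul_smul, mul_smul, inv_smul_eq_iff.mpr hkx.symm, hgx, hkx]
    obtain ⟨n, hn⟩ := hPp.exists_card_eq
    have hord : p ∣ orderOf g := by
      have h1 : orderOf g ∣ p ^ n := hn ▸ Subgroup.orderOf_dvd_natCard P hg
      obtain ⟨m, -, hm⟩ := (Nat.dvd_prime_pow hp.out).mp h1
      rw [hm]
      refine dvd_pow_self p fun h0 => hg1 ?_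
      rw [h0, pow_zero, orderOf_eq_one_iff] at hm
      exact hm
    apply not_dvd_stab2 h2 hΩ hb s
    refine hord.trans ?_
    have := Subgroup.orderOf_dvd_natCard _ hmem
    rwa [← MulAut.conj_apply, MulEquiv.orderOf_eq] at this
  · intro g hg h hh
    haveI := IsPGroup.isMulCommutative_of_card_eq_prime_sq hPc
    exact congrArg Subtype.val (IsMulCommutative.is_comm.comm (⟨g, hg⟩ : P) ⟨h, hh⟩)

namespace Ctx

variable (C : Ctx G Ω p a b)

theorem smul_b_ne {g : G} (hg : g ∈ C.P) : g • b ≠ a := Sys.smul_ne (C.le hg) C.hb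

theorem P_inj {g h : G} (hg : g ∈ C.P) (hh : h ∈ C.P) (he : g • b = h • b) : g = h := by
  have := C.free (h⁻¹ * g) (C.P.mul_mem (C.P.inv_mem hh) hg) b C.hb
    (by rw [mul_smul, he, inv_smul_smul])
  exact (inv_mul_eq_one.mp this).symm

/-- The elements of `P` stabilizing the class of `b`. -/
def R : Subgroup G where
  carrier := {g | g ∈ C.P ∧ C.s.r b (g • b)}
  one_mem' := ⟨C.P.one_mem, by rw [one_smul]; exact C.s.refl b C.hb⟩
  mul_mem' := by
    rintro g h ⟨hg, hgr⟩ ⟨hh, hhr⟩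
    refine ⟨C.P.mul_mem hg hh, C.s.trans _ _ _ hgr ?_⟩
    rw [mul_smul]
    exact C.s.inv g (C.le hg) _ _ hhr
  inv_mem' := by
    rintro g ⟨hg, hgr⟩
    refine ⟨C.P.inv_mem hg, C.s.symm _ _ ?_⟩
    have := C.s.inv g⁻¹ (Sys.inv_fix (C.le hg)) _ _ hgr
    rwa [inv_smul_smul] at this

theorem R_le : C.R ≤ C.P := fun _ hg => hg.1

theorem r_iff {g h : G} (hg : g ∈ C.P) (hh : h ∈ C.P) :
    C.s.r (g • b) (h • b) ↔ g⁻¹ * h ∈ C.R := by
  constructor
  · intro hr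
    refine ⟨C.P.mul_mem (C.P.inv_mem hg) hh, ?_⟩
    have := C.s.inv g⁻¹ (Sys.inv_fix (C.le hg)) _ _ hr
    rwa [inv_smul_smul, ← mul_smul] at this
  · rintro ⟨-, hr⟩
    have := C.s.inv g (C.le hg) _ _ hr
    rwa [← mul_smul g, mul_inv_cancel_left] at this

theorem card_R : Nat.card C.R = p := by
  refine Eq.trans ?_ ((Nat.card_coe_set_eq _).trans (C.s.card b C.hb))
  refine Nat.card_congr (Equiv.ofBijective (fun g => ⟨g.1 • b, g.2.2⟩) ⟨?_, ?_⟩)
  · intro g h he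
    exact Subtype.ext (C.P_inj g.2.1 h.2.1 (congrArg Subtype.val he))
  · rintro ⟨x, hx⟩
    obtain ⟨g, hg, rfl⟩ := C.trans x (C.s.ne _ _ hx).2
    exact ⟨⟨g, hg, hx⟩, rfl⟩

theorem exists_rho : ∃ ρ : G, orderOf ρ = p ∧ C.R = Subgroup.zpowers ρ := by
  obtain ⟨g, hg, hg1⟩ : ∃ g ∈ C.R, g ≠ 1 := by
    by_contra! h
    have h1 := C.card_R
    rw [(Subgroup.eq_bot_iff_forall _).mpr h, Subgroup.card_bot] at h1
    exact hp.out.one_lt.ne h1
  have hord : orderOf g = p := by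
    refine (hp.out.eq_one_or_self_of_dvd _ ?_).resolve_left (by simpa using hg1)
    rw [← C.card_R]; exact Subgroup.orderOf_dvd_natCard _ hg
  exact ⟨g, hord, (Subgroup.eq_of_le_of_card_ge (Subgroup.zpowers_le.mpr hg)
    (by rw [C.card_R, Nat.card_zpowers, hord])).symm⟩

theorem mem_cls_b {x : Ω} : x ∈ C.s.cls b ↔ ∃ g ∈ C.R, g • b = x := by
  constructor
  · intro hx
    obtain ⟨g, hg, rfl⟩ := C.trans x (C.s.ne _ _ hx).2
    exact ⟨g, ⟨hg, hx⟩, rfl⟩
  · rintro ⟨g, hg, rfl⟩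
    exact hg.2

/-- The kernel of the action on the classes. -/
def K : Subgroup G where
  carrier := {g | g • a = a ∧ ∀ x, x ≠ a → C.s.r x (g • x)}
  one_mem' := ⟨one_smul _ _, fun x hx => by rw [one_smul]; exact C.s.refl x hx⟩
  mul_mem' := by
    rintro g h ⟨hg, hgr⟩ ⟨hh, hhr⟩
    refine ⟨by rw [mul_smul, hh, hg], fun x hx => ?_⟩
    rw [mul_smul]
    exact C.s.trans _ _ _ (hhr x hx) (hgr _ (C.s.ne _ _ (hhr x hx)).2)
  inv_mem' := by
    rintro g ⟨hg, hgr⟩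
    refine ⟨Sys.inv_fix hg, fun x hx => ?_⟩
    have := hgr (g⁻¹ • x) (Sys.smul_ne (Sys.inv_fix hg) hx)
    rw [smul_inv_smul] at this
    exact C.s.symm _ _ this

theorem K_le : C.K ≤ stabilizer G a := fun _ hg => hg.1

theorem K_cls {g : G} (hg : g ∈ C.K) (x : Ω) : g • C.s.cls x = C.s.cls (g • x) :=
  C.s.smul_cls hg.1 x

theorem R_le_K : C.R ≤ C.K := by
  intro g hg
  refine ⟨C.le hg.1, fun x hx => ?_⟩
  obtain ⟨h, hh, rfl⟩ := C.trans x hx
  rw [← mul_smul, C.r_iff hh (C.P.mul_mem hg.1 hh), ← mul_assoc,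
    C.comm _ (C.P.inv_mem hh) _ hg.1, inv_mul_cancel_right]
  exact hg

theorem P_inf_K {g : G} (hg : g ∈ C.P) (hk : g ∈ C.K) : g ∈ C.R := ⟨hg, hk.2 b C.hb⟩

theorem K_conj {g : G} (hg : g • a = a) {k : G} (hk : k ∈ C.K) : g * k * g⁻¹ ∈ C.K := by
  refine ⟨by rw [mul_smul, mul_smul, Sys.inv_fix hg, hk.1, hg], fun x hx => ?_⟩
  have := C.s.inv g hg _ _ (hk.2 (g⁻¹ • x) (Sys.smul_ne (Sys.inv_fix hg) hx))
  rwa [smul_inv_smul, ← mul_smul g, ← mul_smul] at this

theorem not_dvd (C : Ctx G Ω p a b) {H : Subgroup G} {x : Ω} (hx : x ≠ a)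
    (hH : ∀ g ∈ H, g • a = a ∧ g • x = x) : ¬ p ∣ Nat.card H := fun h =>
  not_dvd_stab2 C.h2 C.hΩ hx C.s (h.trans (Subgroup.card_dvd_of_le hH))

/-- An element of the kernel fixing a class pointwise is trivial. -/
theorem K_faithful {k : G} (hk : k ∈ C.K) (hfix : ∀ y ∈ C.s.cls b, k • y = y) : k = 1 := by
  classical
  let K₀ : Subgroup G :=
    { carrier := {g | g ∈ C.K ∧ ∀ y ∈ C.s.cls b, g • y = y}
      one_mem' := ⟨C.K.one_mem, fun y _ => one_smul _ _⟩
      mul_mem' := fun {g h} hg hh => ⟨C.K.mul_mem hg.1 hh.1,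
        fun y hy => by rw [mul_smul, hh.2 y hy, hg.2 y hy]⟩
      inv_mem' := fun {g} hg => ⟨C.K.inv_mem hg.1,
        fun y hy => inv_smul_eq_iff.mpr (hg.2 y hy).symm⟩ }
  have hK₀ : ¬ p ∣ Nat.card K₀ :=
    C.not_dvd C.hb fun g hg => ⟨hg.1.1, hg.2 b (C.s.self_mem_cls C.hb)⟩
  refine eq_of_smul_eq_smul (α := Ω) fun x => ?_
  rw [one_smul]
  by_cases hxa : x = a
  · rw [hxa]; exact hk.1
  let O := orbit K₀ x
  have hOx : O ⊆ C.s.cls x := by
    rintro _ ⟨⟨g, hg⟩, rfl⟩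
    exact hg.1.2 x hxa
  obtain ⟨ρ, hρ, hR⟩ := C.exists_rho
  have hconj : ∀ g ∈ C.R, ∀ h ∈ K₀, g * h * g⁻¹ ∈ K₀ := by
    intro g hg h hh
    refine ⟨C.K.mul_mem (C.K.mul_mem (C.R_le_K hg) hh.1) (C.K.inv_mem (C.R_le_K hg)), fun y hy => ?_⟩
    have hy' : g⁻¹ • y ∈ C.s.cls b := by
      obtain ⟨g', hg', rfl⟩ := C.mem_cls_b.mp hy
      exact C.mem_cls_b.mpr ⟨g⁻¹ * g', C.R.mul_mem (C.R.inv_mem hg) hg', mul_smul _ _ _⟩
    rw [mul_smul, mul_smul, hh.2 _ hy', smul_inv_smul]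
  have horbeq : ∀ g ∈ C.R, ∀ y ∈ O, g • y ∈ orbit K₀ (g • x) := by
    rintro g hg _ ⟨⟨h, hh⟩, rfl⟩
    refine ⟨⟨g * h * g⁻¹, hconj g hg h hh⟩, ?_⟩
    change (g * h * g⁻¹) • g • x = g • h • x
    simp [mul_smul]
  by_cases hcol : ∃ g ∈ C.R, g ≠ 1 ∧ g • x ∈ O
  · -- the orbit is the whole class, of size `p`
    exfalso
    obtain ⟨g, hg, hg1, hgx⟩ := hcol
    have hge : ∀ n : ℕ, g ^ n • x ∈ O := by
      intro n
      induction n with
      | zero => rw [pow_zero, one_smul]; exact mem_orbit_self x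
      | succ n ih =>
        have := horbeq g hg _ ih
        rw [orbit_eq_iff.mpr hgx, ← mul_smul, ← pow_succ'] at this
        exact this
    have hinj : Function.Injective fun n : Fin p => g ^ (n : ℕ) • x := by
      intro m n he
      obtain ⟨h, hh, rfl⟩ := C.trans x hxa
      have hgP := fun j : ℕ => C.P.pow_mem hg.1 j
      have := C.P_inj (C.P.mul_mem (hgP m) hh) (C.P.mul_mem (hgP n) hh)
        (by simpa [mul_smul] using he)
      have hmn := pow_eq_pow_iff_modEq.mp (mul_right_cancel this)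
      have hord : orderOf g = p :=
        (hp.out.eq_one_or_self_of_dvd _ (C.card_R ▸ Subgroup.orderOf_dvd_natCard _ hg)).resolve_left
          (by simpa using hg1)
      rw [hord] at hmn
      exact Fin.ext (Nat.ModEq.eq_of_lt_of_lt hmn m.2 n.2)
    have hle : p ≤ O.ncard := by
      have := Nat.card_le_card_of_injective (fun n : Fin p => (⟨_, hge n⟩ : O))
        (fun m n he => hinj (congrArg Subtype.val he))
      rwa [Nat.card_fin, Nat.card_coe_set_eq] at this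
    have hge' := Set.ncard_le_ncard hOx (Set.toFinite _)
    rw [Sys.cls, C.s.card x hxa] at hge'
    apply hK₀
    have := Subgroup.index_mul_card (stabilizer K₀ x)
    rw [index_stabilizer] at this
    exact ⟨_, ((show O.ncard = p by omega) ▸ this).symm⟩
  · push Not at hcol
    have hinj : Function.Injective fun q : C.R × O => q.1.1 • q.2.1 := by
      rintro ⟨g, y⟩ ⟨g', y'⟩ (he : g.1 • y.1 = g'.1 • y'.1)
      have hgg : (g'⁻¹ * g).1 ∈ C.R := (g'⁻¹ * g).2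
      have h1 : (g'⁻¹ * g).1 • y.1 = y'.1 := by
        simp [mul_smul, he]
      have h2 : (g'⁻¹ * g).1 • x ∈ O := by
        have h3 := horbeq _ hgg _ y.2
        rw [h1] at h3
        rw [show O = orbit K₀ y'.1 from (orbit_eq_iff.mpr y'.2).symm]
        rw [show orbit K₀ y'.1 = orbit K₀ ((g'⁻¹ * g).1 • x) from orbit_eq_iff.mpr h3]
        exact mem_orbit_self _
      have h4 : g'⁻¹ * g = 1 := by
        by_contra hne
        exact hcol _ hgg (fun e => hne (Subtype.ext e)) h2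
      obtain rfl : g' = g := inv_mul_eq_one.mp h4
      exact Prod.ext rfl (Subtype.ext (smul_left_cancel _ he))
    have hsub : Set.range (fun q : C.R × O => q.1.1 • q.2.1) ⊆ C.s.cls x := by
      rintro _ ⟨⟨g, y⟩, rfl⟩
      have hy : C.s.r x y.1 := hOx y.2
      exact C.s.trans _ _ _ hy ((C.R_le_K g.2).2 _ (C.s.ne _ _ hy).2)
    have hle := Set.ncard_le_ncard hsub (Set.toFinite _)
    rw [Set.ncard_range_of_injective hinj, Nat.card_prod, C.card_R, Nat.card_coe_set_eq, Sys.cls,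
      C.s.card x hxa] at hle
    have h1 : O.ncard ≤ 1 := by
      by_contra hlt
      have h5 : p * 2 ≤ p * O.ncard := Nat.mul_le_mul le_rfl (by omega)
      have := hp.out.pos
      omega
    exact (Set.ncard_le_one (Set.toFinite _)).mp h1 _ ⟨⟨k, hk, hfix⟩, rfl⟩ _ (mem_orbit_self x)

theorem exists_R_move {x y : Ω} (hxy : C.s.r x y) : ∃ g ∈ C.R, g • x = y := by
  obtain ⟨g, hg, rfl⟩ := C.trans x (C.s.ne _ _ hxy).1
  obtain ⟨h, hh, rfl⟩ := C.trans y (C.s.ne _ _ hxy).2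
  refine ⟨g⁻¹ * h, (C.r_iff hg hh).mp hxy, ?_⟩
  rw [← mul_smul, C.comm _ (C.P.inv_mem hg) _ hh, inv_mul_cancel_right]

theorem card_K : Nat.card C.K = p * Nat.card (C.K ⊓ stab2 G a b : Subgroup G) := by
  have horb : orbit C.K b = C.s.cls b := by
    ext x
    constructor
    · rintro ⟨⟨g, hg⟩, rfl⟩
      exact hg.2 b C.hb
    · intro hx
      obtain ⟨g, hg, rfl⟩ := C.exists_R_move hx
      exact ⟨⟨g, C.R_le_K hg⟩, rfl⟩
  have h := Subgroup.index_mul_card (stabilizer C.K b)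
  rw [index_stabilizer, horb, Sys.cls, C.s.card b C.hb] at h
  rw [← h]
  congr 1
  exact Nat.card_congr
    { toFun := fun g => ⟨g.1.1, g.1.2, g.1.2.1, g.2⟩
      invFun := fun g => ⟨⟨g.1, g.2.1⟩, g.2.2.2⟩ }

/-- The transported set through `b` and `a`. -/
def S : Set Ω := C.t • C.s.blk b

theorem S_props : a ∈ C.S ∧ b ∈ C.S ∧ C.S ≠ C.s.blk b ∧ C.S.ncard = p + 1 := by
  refine ⟨?_, ⟨a, Set.mem_insert _ _, C.hta⟩, C.s.asym C.h2 C.hΩ C.hb C.hta, ?_⟩
  · exact ⟨b, Set.mem_insert_of_mem _ (C.s.self_mem_cls C.hb), C.htb⟩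
  · rw [S, Set.ncard_smul_set, C.s.ncard_blk C.hb]

theorem stab_S {g : G} (h : g • C.S = C.S) : g • b = b := C.s.stab_fix C.h2 C.hΩ C.hb C.hta h

theorem smul_S {h : G} (hh : h ∈ stab2 G a b) : h • C.S = C.S := by
  have h' : C.t⁻¹ * h * C.t ∈ stab2 G a b := by
    have := swap_normalizes (G := G) (a := a) (b := b) (t := C.t⁻¹)
      (inv_smul_eq_iff.mpr C.htb.symm) (inv_smul_eq_iff.mpr C.hta.symm) hh
    simpa using this
  rw [S, ← mul_smul, show h * C.t = C.t * (C.t⁻¹ * h * C.t) by group, mul_smul]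
  congr 1
  rw [C.s.smul_blk h'.1, h'.2]

/-- The part of the transported set outside `a`, `b` is not inside the class of `b`. -/
theorem exists_outside : ∃ c ∈ C.S, c ≠ a ∧ c ∉ C.s.cls b := by
  obtain ⟨ha, hb', hne, hcard⟩ := C.S_props
  by_contra! h
  refine hne (Set.eq_of_subset_of_ncard_le ?_ ?_ (Set.toFinite _))
  · intro c hc
    by_cases hca : c = a
    · rw [hca]; exact Set.mem_insert _ _
    · exact Set.mem_insert_of_mem _ (h c hc hca)
  · rw [hcard, C.s.ncard_blk C.hb]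

end Ctx

end Cfsg.Agent.SquarePlusOne
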